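import Cfsg.Agent.Lib.Cores.PCore
import Mathlib.GroupTheory.Frattini

/-!
Basic API for `Cfsg.fittingSubgroup` of a finite group.
-/

set_option autoImplicit false

namespace Cfsg.Agent.Lib.Cores

open Cfsg

variable {G H : Type*} [Group G] [Group H]

/-- A group embedding into a nilpotent group is nilpotent. -/
theorem isNilpotent_of_injective [Group.IsNilpotent H] (f : G →* H) (hf : Function.Injective f) :
    Group.IsNilpotent G :=
  Subgroup.isNilpotent_of_ker_le_center f (by rw [(MonoidHom.ker_eq_bot_iff f).mpr hf]; exact bot_le)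

/-- The image of a nilpotent subgroup is nilpotent. -/
theorem isNilpotent_map (f : G →* H) (A : Subgroup G) [Group.IsNilpotent A] :
    Group.IsNilpotent (A.map f) :=
  Group.nilpotent_of_surjective (f.subgroupMap A) (MonoidHom.subgroupMap_surjective f A)

/-- A commutative subgroup is nilpotent. -/
theorem isNilpotent_of_isMulCommutative (A : Subgroup G) [IsMulCommutative A] :
    Group.IsNilpotent A :=
  Subgroup.isNilpotent_of_lowerCentralSeries_eq_bot (S := A) (n := 1) (by
    rw [Subgroup.lowerCentralSeries_succ, Subgroup.lowerCentralSeries_zero,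
      Subgroup.commutator_eq_bot_iff_le_centralizer, Subgroup.le_centralizer_iff_isMulCommutative]
    infer_instance)

theorem le_fittingSubgroup {N : Subgroup G} (hN : N.Normal) (h : Group.IsNilpotent N) :
    N ≤ fittingSubgroup G :=
  le_sSup ⟨hN, h⟩

instance fittingSubgroup_normal (G : Type*) [Group G] : (fittingSubgroup G).Normal :=
  Subgroup.sSup_normal _ (fun _ h => h.1)

theorem pCore_le_fittingSubgroup [Finite G] (p : ℕ) [Fact p.Prime] :
    pCore p G ≤ fittingSubgroup G :=
  le_fittingSubgroup inferInstance (pCore_isPGroup p G).isNilpotent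

/-- A normal nilpotent subgroup lies in any subgroup containing all the `O_p(G)`. -/
theorem normal_nilpotent_le_of_pCore_le [Finite G] {N K : Subgroup G} [N.Normal]
    (hN : Group.IsNilpotent N) (hK : ∀ p : ℕ, p.Prime → pCore p G ≤ K) : N ≤ K := by
  rw [← Subgroup.subgroupOf_eq_top, ← Subgroup.index_eq_one]
  by_contra hne
  obtain ⟨p, hp, hpd⟩ := Nat.exists_prime_and_dvd hne
  have : Fact p.Prime := ⟨hp⟩
  obtain ⟨P⟩ := (Sylow.nonempty : Nonempty (Sylow p N))
  have hP : (P : Subgroup N).Normal := (Group.isNilpotent_of_finite_tfae.out 0 3 rfl rfl).mp hN p ‹Fact p.Prime› P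
  have : (P : Subgroup N).Characteristic := Sylow.characteristic_of_normal P hP
  have hle : (P : Subgroup N).map N.subtype ≤ K :=
    (le_pCore inferInstance (P.isPGroup'.map _)).trans (hK p hp)
  exact P.not_dvd_index
    (hpd.trans (Subgroup.index_dvd_of_le (Subgroup.map_le_iff_le_comap.mp hle)))

theorem fittingSubgroup_le_of_pCore_le [Finite G] {K : Subgroup G}
    (hK : ∀ p : ℕ, p.Prime → pCore p G ≤ K) : fittingSubgroup G ≤ K :=
  sSup_le fun N hN => by
    have := hN.1
    exact normal_nilpotent_le_of_pCore_le hN.2 hK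

/-- `F(G)` is generated by the `O_p(G)`. -/
theorem fittingSubgroup_eq_iSup [Finite G] :
    fittingSubgroup G = ⨆ p : Nat.Primes, pCore (p : ℕ) G := by
  refine le_antisymm (fittingSubgroup_le_of_pCore_le fun p hp => le_iSup_of_le ⟨p, hp⟩ le_rfl)
    (iSup_le fun p => ?_)
  have : Fact (p : ℕ).Prime := ⟨p.2⟩
  exact pCore_le_fittingSubgroup _

theorem fittingSubgroup_le_pCore_sup_pPrimeCore [Finite G] (p : ℕ) [hp : Fact p.Prime] :
    fittingSubgroup G ≤ pCore p G ⊔ pPrimeCore p G := by
  refine fittingSubgroup_le_of_pCore_le fun q hq => ?_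
  by_cases h : q = p
  · subst h
    exact le_sup_left
  · have : Fact q.Prime := ⟨hq⟩
    obtain ⟨k, hk⟩ := IsPGroup.iff_card.mp (pCore_isPGroup q G)
    refine le_sup_of_le_right (le_pPrimeCore inferInstance ?_)
    rw [hk]
    exact ((Nat.coprime_primes hq hp.out).mpr h).pow_left k

/-- Fitting's theorem for finite groups: `F(G)` is nilpotent. -/
theorem fittingSubgroup_isNilpotent (G : Type*) [Group G] [Finite G] :
    Group.IsNilpotent (fittingSubgroup G) := by
  refine (Group.isNilpotent_of_finite_tfae.out 0 3 rfl rfl).mpr ?_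
  intro p hp P
  have := hp
  have hle : pCore p G ≤ fittingSubgroup G := pCore_le_fittingSubgroup p
  have hQp : IsPGroup p ((pCore p G).subgroupOf (fittingSubgroup G)) :=
    (pCore_isPGroup p G).comap_subtype
  have hQi : ¬ p ∣ ((pCore p G).subgroupOf (fittingSubgroup G)).index := by
    intro hd
    have h1 : (pCore p G).relIndex (fittingSubgroup G) ∣ (pCore p G).relIndex (pPrimeCore p G ⊔ pCore p G) :=
      ⟨_, (Subgroup.relIndex_mul_relIndex _ _ _ hle
        ((fittingSubgroup_le_pCore_sup_pPrimeCore p).trans (sup_comm (pCore p G) (pPrimeCore p G)).le)).symm⟩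
    rw [Subgroup.relIndex_sup_right] at h1
    exact not_dvd_card_pPrimeCore
      ((hd.trans h1).trans (Subgroup.relIndex_dvd_card _ _))
  have hQn : (hQp.toSylow hQi : Subgroup (fittingSubgroup G)).Normal := by
    rw [IsPGroup.toSylow_coe]
    exact inferInstance
  have := Sylow.unique_of_normal _ hQn
  rw [Subsingleton.elim P (hQp.toSylow hQi)]
  exact hQn

theorem normal_sup_isNilpotent [Finite G] {A B : Subgroup G} [A.Normal] [B.Normal]
    (hA : Group.IsNilpotent A) (hB : Group.IsNilpotent B) :
    Group.IsNilpotent ↥(A ⊔ B) := by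
  have hle : A ⊔ B ≤ fittingSubgroup G :=
    sup_le (le_fittingSubgroup ‹_› hA) (le_fittingSubgroup ‹_› hB)
  have := fittingSubgroup_isNilpotent G
  exact isNilpotent_of_injective (Subgroup.inclusion hle) (Subgroup.inclusion_injective hle)

theorem isNilpotent_of_le [Finite G] {A : Subgroup G} (hA : A ≤ fittingSubgroup G) :
    Group.IsNilpotent A := by
  have := fittingSubgroup_isNilpotent G
  exact isNilpotent_of_injective (Subgroup.inclusion hA) (Subgroup.inclusion_injective hA)

theorem map_fittingSubgroup_le [Finite G] (f : G →* H) (hf : Function.Surjective f) :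
    (fittingSubgroup G).map f ≤ fittingSubgroup H := by
  have := fittingSubgroup_isNilpotent G
  exact le_fittingSubgroup ((fittingSubgroup_normal G).map f hf)
    (isNilpotent_map f _)

theorem map_fittingSubgroup_equiv [Finite G] (e : G ≃* H) :
    (fittingSubgroup G).map e.toMonoidHom = fittingSubgroup H := by
  have : Finite H := Finite.of_equiv G e.toEquiv
  refine le_antisymm (map_fittingSubgroup_le e.toMonoidHom e.surjective) ?_
  have h := map_fittingSubgroup_le e.symm.toMonoidHom e.symm.surjective
  intro y hy
  exact ⟨e.symm y, h ⟨y, hy, rfl⟩, e.apply_symm_apply y⟩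

instance fittingSubgroup_characteristic (G : Type*) [Group G] :
    (fittingSubgroup G).Characteristic := by
  refine characteristic_of_map_le fun φ => ?_
  rw [Subgroup.map_le_iff_le_comap]
  refine sSup_le fun N hN => ?_
  rw [← Subgroup.map_le_iff_le_comap]
  have := hN.2
  exact le_fittingSubgroup (hN.1.map _ φ.surjective)
    (isNilpotent_map φ.toMonoidHom N)

theorem fittingSubgroup_eq_top_iff [Finite G] :
    fittingSubgroup G = ⊤ ↔ Group.IsNilpotent G := by
  refine ⟨fun h => ?_, fun h => top_le_iff.mp (le_fittingSubgroup inferInstance inferInstance)⟩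
  have := isNilpotent_of_le (A := (⊤ : Subgroup G)) h.ge
  exact Group.isNilpotent_top.mp this

theorem map_subtype_fittingSubgroup_le [Finite G] (N : Subgroup G) [N.Normal] :
    (fittingSubgroup N).map N.subtype ≤ fittingSubgroup G := by
  have := fittingSubgroup_isNilpotent N
  exact le_fittingSubgroup inferInstance (isNilpotent_map _ _)

theorem inf_fittingSubgroup_le_map_subtype [Finite G] (A : Subgroup G) :
    A ⊓ fittingSubgroup G ≤ (fittingSubgroup A).map A.subtype := by
  intro x hx
  refine ⟨⟨x, hx.1⟩, ?_, rfl⟩
  have := fittingSubgroup_isNilpotent G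
  refine le_fittingSubgroup (N := (fittingSubgroup G).subgroupOf A) inferInstance ?_ hx.2
  exact isNilpotent_of_injective
    (A.subtype.subgroupComap (fittingSubgroup G))
    (fun a b h => by
      have h2 : ((a : A) : G) = ((b : A) : G) := congrArg (fun z : fittingSubgroup G => (z : G)) h
      exact Subtype.ext (Subtype.ext h2))

/-- `F(N) = N ⊓ F(G)` for `N` normal. -/
theorem map_subtype_fittingSubgroup_eq [Finite G] (N : Subgroup G) [N.Normal] :
    (fittingSubgroup N).map N.subtype = N ⊓ fittingSubgroup G :=
  le_antisymm (le_inf (Subgroup.map_subtype_le _) (map_subtype_fittingSubgroup_le N))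
    (inf_fittingSubgroup_le_map_subtype N)

theorem map_subtype_fittingSubgroup_le_of_isSubnormal [Finite G] {A : Subgroup G}
    (hA : A.IsSubnormal) : (fittingSubgroup A).map A.subtype ≤ fittingSubgroup G := by
  induction hA with
  | top =>
    exact map_subtype_fittingSubgroup_le ⊤
  | step A K hle _ hN ih =>
    refine le_trans ?_ ih
    have := hN
    let e := Subgroup.subgroupOfEquivOfLe hle
    calc (fittingSubgroup A).map A.subtype
        = ((fittingSubgroup ↥(A.subgroupOf K)).map (A.subgroupOf K).subtype).map K.subtype := by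
          rw [← map_fittingSubgroup_equiv e, Subgroup.map_map, Subgroup.map_map]
          rfl
      _ ≤ (fittingSubgroup K).map K.subtype :=
          Subgroup.map_mono (map_subtype_fittingSubgroup_le _)

/-- A subnormal nilpotent subgroup lies in `F(G)`. -/
theorem le_fittingSubgroup_of_isSubnormal [Finite G] {A : Subgroup G} (hA : A.IsSubnormal)
    (h : Group.IsNilpotent A) : A ≤ fittingSubgroup G := by
  have h2 := map_subtype_fittingSubgroup_le_of_isSubnormal hA
  rwa [fittingSubgroup_eq_top_iff.mpr h, ← MonoidHom.range_eq_map, Subgroup.range_subtype] at h2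

theorem pCore_fittingSubgroup [Finite G] (p : ℕ) [Fact p.Prime] :
    (pCore p (fittingSubgroup G)).map (fittingSubgroup G).subtype = pCore p G := by
  rw [map_subtype_pCore_eq, inf_eq_right]
  exact pCore_le_fittingSubgroup p

theorem frattini_le_fittingSubgroup [Finite G] : frattini G ≤ fittingSubgroup G :=
  le_fittingSubgroup inferInstance frattini_nilpotent

theorem center_le_fittingSubgroup : Subgroup.center G ≤ fittingSubgroup G :=
  le_fittingSubgroup inferInstance (isNilpotent_of_isMulCommutative _)

/-- A minimal normal abelian subgroup argument: a nontrivial solvable group has `F(G) ≠ 1`. -/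
theorem fittingSubgroup_ne_bot_of_isSolvable [Nontrivial G] (hs : Group.IsSolvable G) :
    fittingSubgroup G ≠ ⊥ := by
  intro hF
  obtain ⟨n, hn⟩ := hs
  have key : ∀ m, derivedSeries G m = ⊥ → derivedSeries G 0 = ⊥ := by
    intro m hm
    induction m with
    | zero => exact hm
    | succ m ih =>
      refine ih (le_bot_iff.mp (hF ▸ le_fittingSubgroup inferInstance ?_))
      have hc : ⁅derivedSeries G m, derivedSeries G m⁆ = ⊥ := hm
      have : IsMulCommutative (derivedSeries G m) :=
        Subgroup.le_centralizer_iff_isMulCommutative.mp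
          (Subgroup.commutator_eq_bot_iff_le_centralizer.mp hc)
      exact isNilpotent_of_isMulCommutative _
  exact top_ne_bot (α := Subgroup G) (key n hn)

/-- In a finite solvable group, `C_G(F(G)) ≤ F(G)`. -/
theorem centralizer_fittingSubgroup_le [Finite G] (hs : Group.IsSolvable G) :
    Subgroup.centralizer (fittingSubgroup G : Set G) ≤ fittingSubgroup G := by
  by_contra hC
  set F := fittingSubgroup G with hF
  have : (Subgroup.centralizer (F : Set G)).Normal := inferInstance
  set C := Subgroup.centralizer (F : Set G) with hCdef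
  let π := QuotientGroup.mk' F
  have hne : ∀ B : Subgroup G, ¬ B ≤ F → B.map π ≠ ⊥ := fun B hB h => hB <| by
    rwa [Subgroup.map_eq_bot_iff, QuotientGroup.ker_mk'] at h
  -- descend the derived series of `C` until it falls into `F`
  have hds : ∀ n, ((derivedSeries C n).map C.subtype).Normal := fun n => inferInstance
  have hsC : ∃ n, (derivedSeries C n).map C.subtype ≤ F := by
    obtain ⟨n, hn⟩ := (inferInstance : Group.IsSolvable C)
    exact ⟨n, by rw [hn, Subgroup.map_bot]; exact bot_le⟩
  classical
  obtain ⟨hm, hlast⟩ := Nat.find_spec hsC, fun k (hk : k < Nat.find hsC) => Nat.find_min hsC hk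
  rcases Nat.eq_zero_or_pos (Nat.find hsC) with h0 | h0
  · rw [h0, derivedSeries_zero, ← MonoidHom.range_eq_map, Subgroup.range_subtype] at hm
    exact hC hm
  obtain ⟨k, hk⟩ := Nat.exists_eq_succ_of_ne_zero h0.ne'
  rw [hk, derivedSeries_succ, Subgroup.map_commutator] at hm
  set A := (derivedSeries C k).map C.subtype with hA
  have hAF : ¬ A ≤ F := hlast k (by omega)
  have hAC : A ≤ C := Subgroup.map_subtype_le _
  refine hAF (le_fittingSubgroup (hds k) ?_)
  -- `A` has class at most two: `⁅⁅A, A⁆, A⁆ ≤ ⁅F, C⁆ = 1`
  have hFC : ⁅F, C⁆ = ⊥ := by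
    rw [Subgroup.commutator_comm, Subgroup.commutator_eq_bot_iff_le_centralizer]
  refine Subgroup.isNilpotent_of_lowerCentralSeries_eq_bot (S := A) (n := 2) ?_
  simp only [Subgroup.lowerCentralSeries_succ, Subgroup.lowerCentralSeries_zero]
  exact le_bot_iff.mp ((Subgroup.commutator_mono hm hAC).trans hFC.le)

end Cfsg.Agent.Lib.Cores
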