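import Mathlib.GroupTheory.Sylow
import Mathlib.GroupTheory.Nilpotent
import Mathlib.GroupTheory.QuotientGroup.Basic
import Mathlib.GroupTheory.GroupAction.ConjAct
import Mathlib.GroupTheory.Index

/-!
General helper lemmas used by the core subgroups library: orders of joins with normal subgroups,
transport of characteristic subgroups of subgroups, finite joins.
-/

set_option autoImplicit false

namespace Cfsg.Agent.Lib.Cores

variable {G H : Type*} [Group G] [Group H]

/-- A join-closed finite family containing `⊥` contains its join. -/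
theorem sSup_mem_of_sup_closed {α : Type*} [CompleteLattice α] {S : Set α} (hS : S.Finite)
    (h0 : ⊥ ∈ S) (hsup : ∀ a ∈ S, ∀ b ∈ S, a ⊔ b ∈ S) : sSup S ∈ S := by
  classical
  have h1 : hS.toFinset.sup id ∈ S :=
    Finset.sup_induction h0 hsup (fun a ha => hS.mem_toFinset.mp ha)
  rwa [Finset.sup_id_eq_sSup, hS.coe_toFinset] at h1

/-- `#(H ⊔ N) * #(H ⊓ N) = #H * #N` for `N` normal. -/
theorem card_sup_mul_card_inf (A N : Subgroup G) [N.Normal] :
    Nat.card ↥(A ⊔ N) * Nat.card ↥(A ⊓ N) = Nat.card A * Nat.card N := by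
  have h1 : Nat.card ↥(A ⊔ N) = Nat.card N * N.relIndex A := by
    rw [← N.relIndex_bot_left, ← Subgroup.relIndex_sup_right A N,
      Subgroup.relIndex_mul_relIndex _ _ _ bot_le le_sup_right, Subgroup.relIndex_bot_left]
  have h2 : Nat.card A = Nat.card ↥(A ⊓ N) * N.relIndex A := by
    rw [← (A ⊓ N).relIndex_bot_left, ← Subgroup.inf_relIndex_left A N,
      Subgroup.relIndex_mul_relIndex _ _ _ bot_le inf_le_left, Subgroup.relIndex_bot_left]
  rw [h1, h2]
  ring

theorem card_sup_dvd (A N : Subgroup G) [N.Normal] :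
    Nat.card ↥(A ⊔ N) ∣ Nat.card A * Nat.card N :=
  Dvd.intro _ (card_sup_mul_card_inf A N)

/-- A prime dividing the order of a join with a normal subgroup divides one of the two orders. -/
theorem prime_dvd_card_sup {A N : Subgroup G} [N.Normal] {q : ℕ} (hq : q.Prime)
    (h : q ∣ Nat.card ↥(A ⊔ N)) : q ∣ Nat.card A ∨ q ∣ Nat.card N :=
  hq.dvd_mul.mp (h.trans (card_sup_dvd A N))

/-- `#(f '' A) * #(A ⊓ ker f) = #A`. -/
theorem card_map_mul_card_inf_ker (f : G →* H) (A : Subgroup G) :
    Nat.card (A.map f) * Nat.card ↥(A ⊓ f.ker) = Nat.card A := by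
  rw [← Subgroup.relIndex_ker, mul_comm, ← Subgroup.inf_relIndex_left A f.ker,
    ← (A ⊓ f.ker).relIndex_bot_left,
    Subgroup.relIndex_mul_relIndex _ _ _ bot_le inf_le_left, Subgroup.relIndex_bot_left]

/-- `#(π⁻¹ K) = #N * #K` for the quotient map `π : G → G ⧸ N`. -/
theorem card_comap_mk' (N : Subgroup G) [N.Normal] (K : Subgroup (G ⧸ N)) :
    Nat.card (K.comap (QuotientGroup.mk' N)) = Nat.card N * Nat.card K := by
  have hle : N ≤ K.comap (QuotientGroup.mk' N) := QuotientGroup.le_comap_mk' N K
  have h := card_map_mul_card_inf_ker (QuotientGroup.mk' N) (K.comap (QuotientGroup.mk' N))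
  rw [Subgroup.map_comap_eq_self_of_surjective (QuotientGroup.mk'_surjective N),
    QuotientGroup.ker_mk', inf_eq_right.mpr hle] at h
  rw [← h, mul_comm]

/-- A characteristic subgroup of a normal subgroup, pushed into the group, is normal. -/
theorem normal_map_subtype_of_char (N : Subgroup G) [N.Normal] (K : Subgroup N)
    [K.Characteristic] : (K.map N.subtype).Normal := inferInstance

/-- A characteristic subgroup of `A` is normalized by everything normalizing `A`. -/
theorem normalizer_le_normalizer_map_subtype (A : Subgroup G) (K : Subgroup A)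
    [K.Characteristic] :
    Subgroup.normalizer (A : Set G) ≤ Subgroup.normalizer (K.map A.subtype : Set G) := by
  intro g hg
  rw [Subgroup.mem_normalizer_iff] at hg
  have key : ∀ g : G, (∀ h, h ∈ A ↔ g * h * g⁻¹ ∈ A) → ∀ x ∈ K.map A.subtype,
      g * x * g⁻¹ ∈ K.map A.subtype := by
    intro g hg x hx
    obtain ⟨a, ha, rfl⟩ := hx
    let e : A ≃* A :=
      { toFun := fun y => ⟨g * y * g⁻¹, (hg y).mp y.2⟩
        invFun := fun y => ⟨g⁻¹ * y * g, (hg _).mpr (by simp [mul_assoc])⟩
        left_inv := fun y => by ext; simp [mul_assoc]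
        right_inv := fun y => by ext; simp [mul_assoc]
        map_mul' := fun y z => by ext; simp [mul_assoc] }
    refine ⟨e a, ?_, rfl⟩
    have h := (Subgroup.characteristic_iff_map_le.mp ‹K.Characteristic› e)
    exact h ⟨a, ha, rfl⟩
  rw [Subgroup.mem_normalizer_iff]
  intro x
  refine ⟨key g hg x, fun hx => ?_⟩
  have hg' : ∀ h, h ∈ A ↔ g⁻¹ * h * g⁻¹⁻¹ ∈ A := fun h => by
    rw [hg (g⁻¹ * h * g⁻¹⁻¹)]; simp [mul_assoc]
  have := key g⁻¹ hg' _ hx
  simpa [mul_assoc] using this

/-- An equality of subgroups invariant under all automorphisms shows they are characteristic. -/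
theorem characteristic_of_map_le {K : Subgroup G}
    (h : ∀ φ : G ≃* G, K.map φ.toMonoidHom ≤ K) : K.Characteristic :=
  Subgroup.characteristic_iff_map_le.mpr h

end Cfsg.Agent.Lib.Cores
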