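import Cfsg.Prelude.Def_Transfer
import Cfsg.Agent.Lib.Cores.Basic
import Mathlib.GroupTheory.Frattini

/-!
Facts about the Frattini subgroup of a finite group and of a finite `p`-group.
-/

set_option autoImplicit false

namespace Cfsg.Agent.Lib.Cores

variable {G H : Type*} [Group G] [Group H] {p : ℕ}

theorem map_frattini_le (f : G →* H) (hf : Function.Surjective f) :
    (frattini G).map f ≤ frattini H :=
  Subgroup.map_le_iff_le_comap.mpr (frattini_le_comap_frattini_of_surjective hf)

theorem map_frattini_equiv (e : G ≃* H) : (frattini G).map e.toMonoidHom = frattini H := by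
  refine le_antisymm (map_frattini_le e.toMonoidHom e.surjective) ?_
  have h := map_frattini_le e.symm.toMonoidHom e.symm.surjective
  intro y hy
  exact ⟨e.symm y, h ⟨y, hy, rfl⟩, e.apply_symm_apply y⟩

/-- `K ⊔ Φ(A) = A` forces `K = A` inside an ambient group. -/
theorem eq_of_sup_map_frattini [Finite G] {A K : Subgroup G} (hK : K ≤ A)
    (h : K ⊔ (frattini A).map A.subtype = A) : K = A := by
  have h2 : K.subgroupOf A ⊔ frattini A = ⊤ := by
    refine Subgroup.map_injective A.subtype_injective ?_
    rw [Subgroup.map_sup, Subgroup.map_subgroupOf_eq_of_le hK, h, ← MonoidHom.range_eq_map,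
      Subgroup.range_subtype]
  exact le_antisymm hK (Subgroup.subgroupOf_eq_top.mp (frattini_nongenerating h2))

/-- `Φ(A) ≤ Φ(G)` for `A` normal in the finite group `G`. -/
theorem map_subtype_frattini_le [Finite G] (A : Subgroup G) [A.Normal] :
    (frattini A).map A.subtype ≤ frattini G := by
  simp only [frattini, Order.radical, le_iInf_iff]
  intro M hM
  by_contra hle
  set B := (frattini A).map A.subtype with hB
  have : B.Normal := inferInstance
  have htop : M ⊔ B = ⊤ :=
    hM.2 _ (lt_of_le_of_ne le_sup_left fun h => hle (le_sup_right.trans h.ge))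
  have hBA : B ≤ A := Subgroup.map_subtype_le _
  have h2 : (A ⊓ M) ⊔ B = A := by
    refine le_antisymm (sup_le inf_le_left hBA) fun a ha => ?_
    have hm : a ∈ ((M ⊔ B : Subgroup G) : Set G) := by rw [htop]; trivial
    rw [Subgroup.mul_normal] at hm
    obtain ⟨m, hm, b, hb, rfl⟩ := hm
    refine Subgroup.mul_mem_sup ⟨?_, hm⟩ hb
    have : m * b * b⁻¹ ∈ A := mul_mem ha (inv_mem (hBA hb))
    simpa using this
  have h3 := eq_of_sup_map_frattini inf_le_left h2
  exact hle (hBA.trans (inf_eq_left.mp h3))

/-- A subgroup normal of prime index is maximal. -/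
theorem isCoatom_of_prime_index {M : Subgroup G} (h : M.index.Prime) : IsCoatom M := by
  refine ⟨fun htop => by simp [htop, Nat.not_prime_one] at h, fun K hK => ?_⟩
  have hmul := Subgroup.relIndex_mul_index hK.le
  rcases (Nat.dvd_prime h).mp (Subgroup.index_dvd_of_le hK.le) with h1 | h1
  · exact Subgroup.index_eq_one.mp h1
  · exfalso
    rw [h1] at hmul
    have : M.relIndex K = 1 := mul_eq_right₀ h.ne_zero |>.mp hmul
    exact hK.not_ge (Subgroup.relIndex_eq_one.mp this)

/-- In a finite nilpotent group a maximal subgroup is normal of prime index. -/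
theorem prime_index_of_isCoatom [Finite G] [Group.IsNilpotent G] {M : Subgroup G}
    (hM : IsCoatom M) : M.Normal ∧ M.index.Prime := by
  have hn : M.Normal := (Group.isNilpotent_of_finite_tfae.out 0 2 rfl rfl).mp ‹_› M hM
  refine ⟨hn, ?_⟩
  have hne : M.index ≠ 1 := fun h => hM.1 (Subgroup.index_eq_one.mp h)
  obtain ⟨q, hq, hqd⟩ := Nat.exists_prime_and_dvd hne
  have : Fact q.Prime := ⟨hq⟩
  rw [Subgroup.index_eq_card] at hqd ⊢
  obtain ⟨x, hx⟩ := exists_prime_orderOf_dvd_card' q hqd
  have hK : (Subgroup.zpowers x).comap (QuotientGroup.mk' M) = ⊤ := by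
    refine hM.2 _ (lt_of_le_of_ne (QuotientGroup.le_comap_mk' M _) fun h => ?_)
    obtain ⟨g, rfl⟩ := QuotientGroup.mk'_surjective M x
    have : g ∈ M := h.symm ▸ (Subgroup.mem_zpowers (QuotientGroup.mk' M g) : _)
    rw [QuotientGroup.mk'_apply, (QuotientGroup.eq_one_iff g).mpr this, orderOf_one] at hx
    exact hq.ne_one hx.symm
  have htop : Subgroup.zpowers x = ⊤ := by
    rw [← Subgroup.map_comap_eq_self_of_surjective (QuotientGroup.mk'_surjective M) (Subgroup.zpowers x),
      hK, Subgroup.map_top_of_surjective _ (QuotientGroup.mk'_surjective M)]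
  rw [← orderOf_eq_card_of_forall_mem_zpowers (g := x) fun y => htop ▸ Subgroup.mem_top y, hx]
  exact hq

/-- The commutator subgroup of a finite nilpotent group lies in its Frattini subgroup. -/
theorem commutator_le_frattini [Finite G] [Group.IsNilpotent G] : commutator G ≤ frattini G := by
  simp only [frattini, Order.radical, le_iInf_iff]
  intro M hM
  obtain ⟨hn, hp⟩ := prime_index_of_isCoatom hM
  have : Fact M.index.Prime := ⟨hp⟩
  have : IsCyclic (G ⧸ M) := isCyclic_of_prime_card (Subgroup.index_eq_card M).symm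
  exact hn.quotient_commutative_iff_commutator_le.mp ⟨⟨IsCyclic.isMulCommutative.is_comm.comm⟩⟩

/-- In a finite `p`-group every `p`-th power lies in the Frattini subgroup. -/
theorem pow_mem_frattini [Finite G] [hp : Fact p.Prime] (hG : IsPGroup p G) (x : G) :
    x ^ p ∈ frattini G := by
  have := hG.isNilpotent
  simp only [frattini, Order.radical, Subgroup.mem_iInf]
  intro M hM
  obtain ⟨hn, hq⟩ := prime_index_of_isCoatom hM
  obtain ⟨k, hk⟩ := hG.index M
  rw [hk] at hq
  have h := M.pow_index_mem x
  rw [hk, Nat.Prime.eq_one_of_pow hq, pow_one] at h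
  exact h

/-- `G / Φ(G)` is elementary abelian for a finite `p`-group: exponent part. -/
theorem pow_eq_one_quotient_frattini [Finite G] [Fact p.Prime] (hG : IsPGroup p G)
    (x : G ⧸ frattini G) : x ^ p = 1 := by
  obtain ⟨g, rfl⟩ := QuotientGroup.mk'_surjective _ x
  rw [← map_pow]
  exact (QuotientGroup.eq_one_iff _).mpr (pow_mem_frattini hG g)

theorem frattini_ne_top [Finite G] [Nontrivial G] : frattini G ≠ ⊤ := fun h =>
  (bot_ne_top : (⊥ : Subgroup G) ≠ ⊤) (frattini_nongenerating (by rw [h, bot_sup_eq]))

end Cfsg.Agent.Lib.Cores
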