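import Cfsg.Prelude.Def_CaseTheorems
import Cfsg.Agent.Lib.Cores.Basic

/-!
Basic API for `Cfsg.pCore`, `Cfsg.pPrimeCore` and `Cfsg.oddCore`.
-/

set_option autoImplicit false

namespace Cfsg.Agent.Lib.Cores

open Cfsg

variable {G H : Type*} [Group G] [Group H] {p : ℕ}

/-! ### `O_p(G)` -/

theorem le_pCore {N : Subgroup G} (hN : N.Normal) (hp : IsPGroup p N) : N ≤ pCore p G :=
  le_sSup ⟨hN, hp⟩

theorem pCore_le_iff {K : Subgroup G} :
    pCore p G ≤ K ↔ ∀ N : Subgroup G, N.Normal → IsPGroup p N → N ≤ K :=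
  ⟨fun h _ hN hp => (le_pCore hN hp).trans h, fun h => sSup_le fun N hN => h N hN.1 hN.2⟩

theorem directedOn_normal_pSubgroups :
    DirectedOn (· ≤ ·) {N : Subgroup G | N.Normal ∧ IsPGroup p N} := by
  rintro A ⟨hA, hAp⟩ B ⟨hB, hBp⟩
  have := hA
  have := hB
  exact ⟨A ⊔ B, ⟨Subgroup.sup_normal A B, hAp.to_sup_of_normal_right hBp⟩, le_sup_left, le_sup_right⟩

theorem mem_pCore {x : G} :
    x ∈ pCore p G ↔ ∃ N : Subgroup G, N.Normal ∧ IsPGroup p N ∧ x ∈ N := by
  have hne : {N : Subgroup G | N.Normal ∧ IsPGroup p N}.Nonempty :=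
    ⟨⊥, inferInstance, IsPGroup.of_bot⟩
  rw [pCore, Subgroup.mem_sSup_of_directedOn hne directedOn_normal_pSubgroups]
  simp [and_assoc]

theorem pCore_isPGroup (p : ℕ) (G : Type*) [Group G] : IsPGroup p (pCore p G) := by
  rintro ⟨x, hx⟩
  obtain ⟨N, -, hNp, hxN⟩ := mem_pCore.mp hx
  obtain ⟨k, hk⟩ := hNp ⟨x, hxN⟩
  exact ⟨k, Subtype.ext (by simpa using congrArg Subtype.val hk)⟩

theorem map_pCore_le (f : G →* H) (hf : Function.Surjective f) :
    (pCore p G).map f ≤ pCore p H :=
  le_pCore ((pCore_normal p G).map f hf) ((pCore_isPGroup p G).map f)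

theorem map_pCore_equiv (e : G ≃* H) : (pCore p G).map e.toMonoidHom = pCore p H := by
  refine le_antisymm (map_pCore_le e.toMonoidHom e.surjective) ?_
  have h := map_pCore_le (p := p) e.symm.toMonoidHom e.symm.surjective
  intro y hy
  exact ⟨e.symm y, h ⟨y, hy, rfl⟩, e.apply_symm_apply y⟩

instance pCore_characteristic (p : ℕ) (G : Type*) [Group G] : (pCore p G).Characteristic :=
  characteristic_of_map_le fun φ => (map_pCore_equiv φ).le

theorem pCore_eq_top_iff : pCore p G = ⊤ ↔ IsPGroup p G := by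
  refine ⟨fun h => ?_, fun h => top_le_iff.mp (le_pCore inferInstance (h.to_subgroup ⊤))⟩
  have h2 : IsPGroup p (⊤ : Subgroup G) := h ▸ pCore_isPGroup p G
  exact h2.of_equiv Subgroup.topEquiv

theorem pCore_le_pGroup_of_le {S : Subgroup G} (hS : IsPGroup p S) :
    IsPGroup p ↥(S ⊔ pCore p G) :=
  hS.to_sup_of_normal_right (pCore_isPGroup p G)

theorem pCore_le_sylow (P : Sylow p G) : pCore p G ≤ (P : Subgroup G) :=
  sup_eq_left.mp (P.is_maximal' (pCore_le_pGroup_of_le P.isPGroup') le_sup_left)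

theorem pCore_eq_iInf_sylow (p : ℕ) (G : Type*) [Group G] :
    pCore p G = ⨅ P : Sylow p G, (P : Subgroup G) := by
  refine le_antisymm (le_iInf pCore_le_sylow) (le_pCore ⟨fun x hx g => ?_⟩ ?_)
  · rw [Subgroup.mem_iInf] at hx ⊢
    intro P
    have h := hx (g⁻¹ • P)
    rw [Sylow.coe_subgroup_smul, Subgroup.mem_pointwise_smul_iff_inv_smul_mem] at h
    simpa [MulAut.smul_def, mul_assoc] using h
  · obtain ⟨P⟩ := (Sylow.nonempty : Nonempty (Sylow p G))
    exact P.isPGroup'.to_le (iInf_le _ P)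

/-- A characteristic subgroup argument: `O_p` of a normal subgroup lies in `O_p` of the group. -/
theorem map_subtype_pCore_le (N : Subgroup G) [N.Normal] :
    (pCore p N).map N.subtype ≤ pCore p G :=
  le_pCore inferInstance ((pCore_isPGroup p N).map _)

theorem inf_pCore_le_map_subtype (A : Subgroup G) :
    A ⊓ pCore p G ≤ (pCore p A).map A.subtype := by
  intro x hx
  refine ⟨⟨x, hx.1⟩, ?_, rfl⟩
  exact le_pCore (N := (pCore p G).subgroupOf A) inferInstance
    (pCore_isPGroup p G).comap_subtype hx.2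

/-- `O_p(N) = N ⊓ O_p(G)` for `N` normal. -/
theorem map_subtype_pCore_eq (N : Subgroup G) [N.Normal] :
    (pCore p N).map N.subtype = N ⊓ pCore p G :=
  le_antisymm (le_inf (Subgroup.map_subtype_le _) (map_subtype_pCore_le N))
    (inf_pCore_le_map_subtype N)

/-- `O_p` of a subnormal subgroup lies in `O_p(G)`. -/
theorem map_subtype_pCore_le_of_isSubnormal {A : Subgroup G} (hA : A.IsSubnormal) :
    (pCore p A).map A.subtype ≤ pCore p G := by
  induction hA with
  | top =>
    exact map_subtype_pCore_le ⊤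
  | step A K hle _ hN ih =>
    refine le_trans ?_ ih
    have := hN
    let e := Subgroup.subgroupOfEquivOfLe hle
    calc (pCore p A).map A.subtype
        = ((pCore p ↥(A.subgroupOf K)).map (A.subgroupOf K).subtype).map K.subtype := by
          rw [← map_pCore_equiv e, Subgroup.map_map, Subgroup.map_map]
          rfl
      _ ≤ (pCore p K).map K.subtype := Subgroup.map_mono (map_subtype_pCore_le _)

/-- A subnormal `p`-subgroup lies in `O_p(G)`. -/
theorem le_pCore_of_isSubnormal {A : Subgroup G} (hA : A.IsSubnormal) (hp : IsPGroup p A) :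
    A ≤ pCore p G := by
  have h := map_subtype_pCore_le_of_isSubnormal (p := p) hA
  rwa [pCore_eq_top_iff.mpr hp, ← MonoidHom.range_eq_map, Subgroup.range_subtype] at h

/-- For a normal `p`-subgroup `N`, `O_p(G/N) = O_p(G)/N`. -/
theorem comap_pCore_quotient {N : Subgroup G} [N.Normal] (hN : IsPGroup p N) :
    (pCore p (G ⧸ N)).comap (QuotientGroup.mk' N) = pCore p G := by
  refine le_antisymm (le_pCore inferInstance ?_) ?_
  · apply (pCore_isPGroup p (G ⧸ N)).comap_of_ker_isPGroup
    rwa [QuotientGroup.ker_mk']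
  · rw [← Subgroup.map_le_iff_le_comap]
    exact map_pCore_le _ (QuotientGroup.mk'_surjective N)

/-- `O_p(G / O_p(G)) = 1`. -/
theorem pCore_quotient_pCore (p : ℕ) (G : Type*) [Group G] :
    pCore p (G ⧸ pCore p G) = ⊥ := by
  rw [← Subgroup.map_comap_eq_self_of_surjective (QuotientGroup.mk'_surjective (pCore p G))
    (pCore p (G ⧸ pCore p G)), comap_pCore_quotient (pCore_isPGroup p G), QuotientGroup.map_mk'_self]

theorem pCore_eq_bot_iff : pCore p G = ⊥ ↔ ∀ N : Subgroup G, N.Normal → IsPGroup p N → N = ⊥ :=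
  ⟨fun h N hN hp => le_bot_iff.mp (h ▸ le_pCore hN hp),
    fun h => h _ inferInstance (pCore_isPGroup p G)⟩

/-! ### `O_{p'}(G)` -/

theorem le_pPrimeCore {N : Subgroup G} (hN : N.Normal) (hp : (Nat.card N).Coprime p) :
    N ≤ pPrimeCore p G :=
  le_sSup ⟨hN, hp⟩

theorem pPrimeCore_mem (p : ℕ) (G : Type*) [Group G] [Finite G] :
    pPrimeCore p G ∈ {N : Subgroup G | N.Normal ∧ (Nat.card N).Coprime p} := by
  refine sSup_mem_of_sup_closed (Set.toFinite _) ⟨inferInstance, by simp⟩ ?_
  rintro A ⟨hA, hAp⟩ B ⟨hB, hBp⟩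
  have := hA
  have := hB
  exact ⟨Subgroup.sup_normal A B, (Nat.Coprime.mul_left hAp hBp).coprime_dvd_left (card_sup_dvd A B)⟩

theorem pPrimeCore_coprime (p : ℕ) (G : Type*) [Group G] [Finite G] :
    (Nat.card (pPrimeCore p G)).Coprime p :=
  (pPrimeCore_mem p G).2

theorem not_dvd_card_pPrimeCore [Finite G] [hp : Fact p.Prime] :
    ¬ p ∣ Nat.card (pPrimeCore p G) :=
  hp.out.coprime_iff_not_dvd.mp (pPrimeCore_coprime p G).symm

theorem odd_card_oddCore (G : Type*) [Group G] [Finite G] : Odd (Nat.card (oddCore G)) :=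
  Nat.coprime_two_right.mp (pPrimeCore_coprime 2 G)

theorem le_oddCore {N : Subgroup G} (hN : N.Normal) (h : Odd (Nat.card N)) : N ≤ oddCore G :=
  le_pPrimeCore hN (Nat.coprime_two_right.mpr h)

theorem map_pPrimeCore_le [Finite G] (f : G →* H) (hf : Function.Surjective f) :
    (pPrimeCore p G).map f ≤ pPrimeCore p H :=
  le_pPrimeCore ((pPrimeCore_normal p G).map f hf)
    ((pPrimeCore_coprime p G).coprime_dvd_left (Subgroup.card_map_dvd _ f))

theorem map_pPrimeCore_equiv [Finite G] (e : G ≃* H) :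
    (pPrimeCore p G).map e.toMonoidHom = pPrimeCore p H := by
  have : Finite H := Finite.of_equiv G e.toEquiv
  refine le_antisymm (map_pPrimeCore_le e.toMonoidHom e.surjective) ?_
  have h := map_pPrimeCore_le (p := p) e.symm.toMonoidHom e.symm.surjective
  intro y hy
  exact ⟨e.symm y, h ⟨y, hy, rfl⟩, e.apply_symm_apply y⟩

instance pPrimeCore_characteristic (p : ℕ) (G : Type*) [Group G] :
    (pPrimeCore p G).Characteristic := by
  refine characteristic_of_map_le fun φ => ?_
  rw [Subgroup.map_le_iff_le_comap]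
  refine sSup_le fun N hN => ?_
  rw [← Subgroup.map_le_iff_le_comap]
  exact le_pPrimeCore (hN.1.map _ φ.surjective)
    (hN.2.coprime_dvd_left (Subgroup.card_map_dvd _ _))

theorem pPrimeCore_eq_top_iff [Finite G] : pPrimeCore p G = ⊤ ↔ (Nat.card G).Coprime p := by
  refine ⟨fun h => ?_, fun h => top_le_iff.mp (le_pPrimeCore inferInstance ?_)⟩
  · have h2 := pPrimeCore_coprime p G
    rwa [h, Subgroup.card_top] at h2
  · rwa [Subgroup.card_top]

theorem map_subtype_pPrimeCore_le [Finite G] (N : Subgroup G) [N.Normal] :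
    (pPrimeCore p N).map N.subtype ≤ pPrimeCore p G :=
  le_pPrimeCore inferInstance
    ((pPrimeCore_coprime p N).coprime_dvd_left (Subgroup.card_map_dvd _ _))

theorem inf_pPrimeCore_le_map_subtype [Finite G] (A : Subgroup G) :
    A ⊓ pPrimeCore p G ≤ (pPrimeCore p A).map A.subtype := by
  intro x hx
  refine ⟨⟨x, hx.1⟩, ?_, rfl⟩
  exact le_pPrimeCore (N := (pPrimeCore p G).subgroupOf A) inferInstance
    ((pPrimeCore_coprime p G).coprime_dvd_left
      (Subgroup.card_comap_dvd_of_injective _ A.subtype A.subtype_injective)) hx.2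

theorem map_subtype_pPrimeCore_eq [Finite G] (N : Subgroup G) [N.Normal] :
    (pPrimeCore p N).map N.subtype = N ⊓ pPrimeCore p G :=
  le_antisymm (le_inf (Subgroup.map_subtype_le _) (map_subtype_pPrimeCore_le N))
    (inf_pPrimeCore_le_map_subtype N)

theorem map_subtype_pPrimeCore_le_of_isSubnormal [Finite G] {A : Subgroup G}
    (hA : A.IsSubnormal) : (pPrimeCore p A).map A.subtype ≤ pPrimeCore p G := by
  induction hA with
  | top =>
    exact map_subtype_pPrimeCore_le ⊤
  | step A K hle _ hN ih =>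
    refine le_trans ?_ ih
    have := hN
    let e := Subgroup.subgroupOfEquivOfLe hle
    calc (pPrimeCore p A).map A.subtype
        = ((pPrimeCore p ↥(A.subgroupOf K)).map (A.subgroupOf K).subtype).map K.subtype := by
          rw [← map_pPrimeCore_equiv e, Subgroup.map_map, Subgroup.map_map]
          rfl
      _ ≤ (pPrimeCore p K).map K.subtype := Subgroup.map_mono (map_subtype_pPrimeCore_le _)

/-- For a normal `p'`-subgroup `N`, `O_{p'}(G/N) = O_{p'}(G)/N`. -/
theorem comap_pPrimeCore_quotient [Finite G] {N : Subgroup G} [N.Normal]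
    (hN : (Nat.card N).Coprime p) :
    (pPrimeCore p (G ⧸ N)).comap (QuotientGroup.mk' N) = pPrimeCore p G := by
  refine le_antisymm (le_pPrimeCore inferInstance ?_) ?_
  · rw [card_comap_mk']
    exact Nat.Coprime.mul_left hN (pPrimeCore_coprime p _)
  · rw [← Subgroup.map_le_iff_le_comap]
    exact map_pPrimeCore_le _ (QuotientGroup.mk'_surjective N)

/-- `O_{p'}(G / O_{p'}(G)) = 1`. -/
theorem pPrimeCore_quotient_pPrimeCore (p : ℕ) (G : Type*) [Group G] [Finite G] :
    pPrimeCore p (G ⧸ pPrimeCore p G) = ⊥ := by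
  rw [← Subgroup.map_comap_eq_self_of_surjective (QuotientGroup.mk'_surjective (pPrimeCore p G))
    (pPrimeCore p (G ⧸ pPrimeCore p G)), comap_pPrimeCore_quotient (pPrimeCore_coprime p G),
    QuotientGroup.map_mk'_self]

theorem pPrimeCore_eq_bot_iff [Finite G] :
    pPrimeCore p G = ⊥ ↔ ∀ N : Subgroup G, N.Normal → (Nat.card N).Coprime p → N = ⊥ :=
  ⟨fun h N hN hp => le_bot_iff.mp (h ▸ le_pPrimeCore hN hp),
    fun h => h _ inferInstance (pPrimeCore_coprime p G)⟩

/-- `O_p(G) ⊓ O_{p'}(G) = 1`. -/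
theorem pCore_inf_pPrimeCore [Finite G] [hp : Fact p.Prime] :
    pCore p G ⊓ pPrimeCore p G = ⊥ := by
  obtain ⟨k, hk⟩ := IsPGroup.iff_card.mp (pCore_isPGroup p G)
  refine disjoint_iff.mp (Subgroup.disjoint_of_coprime_natCard ?_)
  rw [hk]
  exact (pPrimeCore_coprime p G).symm.pow_left k

theorem commute_of_mem_pCore_of_mem_pPrimeCore [Finite G] [Fact p.Prime] {x y : G}
    (hx : x ∈ pCore p G) (hy : y ∈ pPrimeCore p G) : x * y = y * x :=
  Subgroup.commute_of_normal_of_disjoint (pCore p G) (pPrimeCore p G) inferInstance inferInstance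
    (disjoint_iff.mpr pCore_inf_pPrimeCore) x y hx hy

end Cfsg.Agent.Lib.Cores
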