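import Cfsg.Prelude.Def_OddOrderLocal
import Cfsg.Agent.Lib.Cores.PCore

/-!
Basic API for `Cfsg.piCore`.
-/

set_option autoImplicit false

namespace Cfsg.Agent.Lib.Cores

open Cfsg

universe u

variable {G H : Type u} [Group G] [Group H] {π : Set ℕ}

theorem le_piCore {N : Subgroup G} (hN : N.Normal)
    (hπ : ∀ q : ℕ, q.Prime → q ∣ Nat.card N → q ∈ π) : N ≤ piCore π G :=
  le_sSup ⟨hN, hπ⟩

theorem piCore_mem (π : Set ℕ) (G : Type u) [Group G] [Finite G] :
    piCore π G ∈ {N : Subgroup G | N.Normal ∧ ∀ q : ℕ, q.Prime → q ∣ Nat.card N → q ∈ π} := by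
  refine sSup_mem_of_sup_closed (Set.toFinite _) ⟨inferInstance, ?_⟩ ?_
  · intro q hq h
    rw [Subgroup.card_bot] at h
    exact absurd (Nat.dvd_one.mp h) hq.ne_one
  · rintro A ⟨hA, hAp⟩ B ⟨hB, hBp⟩
    have := hA
    have := hB
    exact ⟨Subgroup.sup_normal A B,
      fun q hq h => (prime_dvd_card_sup hq h).elim (hAp q hq) (hBp q hq)⟩

theorem mem_of_prime_dvd_card_piCore [Finite G] {q : ℕ} (hq : q.Prime)
    (h : q ∣ Nat.card (piCore π G)) : q ∈ π :=
  (piCore_mem π G).2 q hq h

theorem map_piCore_le [Finite G] (f : G →* H) (hf : Function.Surjective f) :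
    (piCore π G).map f ≤ piCore π H :=
  le_piCore ((piCore_normal π G).map f hf) fun _ hq h =>
    mem_of_prime_dvd_card_piCore hq (h.trans (Subgroup.card_map_dvd _ f))

theorem map_piCore_equiv [Finite G] (e : G ≃* H) :
    (piCore π G).map e.toMonoidHom = piCore π H := by
  have : Finite H := Finite.of_equiv G e.toEquiv
  refine le_antisymm (map_piCore_le e.toMonoidHom e.surjective) ?_
  have h := map_piCore_le (π := π) e.symm.toMonoidHom e.symm.surjective
  intro y hy
  exact ⟨e.symm y, h ⟨y, hy, rfl⟩, e.apply_symm_apply y⟩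

instance piCore_characteristic (π : Set ℕ) (G : Type u) [Group G] :
    (piCore π G).Characteristic := by
  refine characteristic_of_map_le fun φ => ?_
  rw [Subgroup.map_le_iff_le_comap]
  refine sSup_le fun N hN => ?_
  rw [← Subgroup.map_le_iff_le_comap]
  exact le_piCore (hN.1.map _ φ.surjective)
    fun q hq h => hN.2 q hq (h.trans (Subgroup.card_map_dvd _ _))

theorem piCore_eq_top_iff [Finite G] :
    piCore π G = ⊤ ↔ ∀ q : ℕ, q.Prime → q ∣ Nat.card G → q ∈ π := by
  refine ⟨fun h q hq hd => mem_of_prime_dvd_card_piCore (π := π) (G := G) hq ?_,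
    fun h => top_le_iff.mp (le_piCore inferInstance fun q hq hd => h q hq ?_)⟩
  · rwa [h, Subgroup.card_top]
  · rwa [Subgroup.card_top] at hd

theorem map_subtype_piCore_le [Finite G] (N : Subgroup G) [N.Normal] :
    (piCore π N).map N.subtype ≤ piCore π G :=
  le_piCore inferInstance fun _ hq h =>
    mem_of_prime_dvd_card_piCore hq (h.trans (Subgroup.card_map_dvd _ _))

theorem inf_piCore_le_map_subtype [Finite G] (A : Subgroup G) :
    A ⊓ piCore π G ≤ (piCore π A).map A.subtype := by
  intro x hx
  refine ⟨⟨x, hx.1⟩, ?_, rfl⟩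
  exact le_piCore (N := (piCore π G).subgroupOf A) inferInstance (fun _ hq h =>
    mem_of_prime_dvd_card_piCore hq
      (h.trans (Subgroup.card_comap_dvd_of_injective _ A.subtype A.subtype_injective))) hx.2

theorem map_subtype_piCore_eq [Finite G] (N : Subgroup G) [N.Normal] :
    (piCore π N).map N.subtype = N ⊓ piCore π G :=
  le_antisymm (le_inf (Subgroup.map_subtype_le _) (map_subtype_piCore_le N))
    (inf_piCore_le_map_subtype N)

theorem map_subtype_piCore_le_of_isSubnormal [Finite G] {A : Subgroup G}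
    (hA : A.IsSubnormal) : (piCore π A).map A.subtype ≤ piCore π G := by
  induction hA with
  | top =>
    exact map_subtype_piCore_le ⊤
  | step A K hle _ hN ih =>
    refine le_trans ?_ ih
    have := hN
    let e := Subgroup.subgroupOfEquivOfLe hle
    calc (piCore π A).map A.subtype
        = ((piCore π ↥(A.subgroupOf K)).map (A.subgroupOf K).subtype).map K.subtype := by
          rw [← map_piCore_equiv e, Subgroup.map_map, Subgroup.map_map]
          rfl
      _ ≤ (piCore π K).map K.subtype := Subgroup.map_mono (map_subtype_piCore_le _)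

/-- A subnormal `π`-subgroup lies in `O_π(G)`. -/
theorem le_piCore_of_isSubnormal [Finite G] {A : Subgroup G} (hA : A.IsSubnormal)
    (hπ : ∀ q : ℕ, q.Prime → q ∣ Nat.card A → q ∈ π) : A ≤ piCore π G := by
  have h := map_subtype_piCore_le_of_isSubnormal (π := π) hA
  rwa [piCore_eq_top_iff.mpr hπ, ← MonoidHom.range_eq_map, Subgroup.range_subtype] at h

/-- `O_p(G) = O_{{p}}(G)`. -/
theorem piCore_singleton (p : ℕ) [hp : Fact p.Prime] (G : Type u) [Group G] [Finite G] :
    piCore {p} G = pCore p G := by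
  refine le_antisymm (le_pCore inferInstance ?_) (le_piCore inferInstance fun q hq h => ?_)
  · refine IsPGroup.of_card (n := (Nat.card (piCore {p} G)).factorization p) ?_
    have key : ∀ q : ℕ, q.Prime → q ∣ Nat.card (piCore {p} G) → q = p :=
      fun q hq h => Set.mem_singleton_iff.mp (mem_of_prime_dvd_card_piCore (π := {p}) hq h)
    have h0 : Nat.card (piCore {p} G) ≠ 0 := Nat.card_pos.ne'
    refine Nat.eq_of_factorization_eq h0 (pow_ne_zero _ hp.out.ne_zero) fun q => ?_
    rw [hp.out.factorization_pow]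
    by_cases hq : q = p
    · subst hq
      simp
    · rw [Finsupp.single_eq_of_ne hq]
      apply Nat.factorization_eq_zero_iff _ _ |>.mpr
      by_cases hq' : q.Prime
      · exact Or.inr (Or.inl fun h => hq (key q hq' h))
      · exact Or.inl hq'
  · obtain ⟨k, hk⟩ := IsPGroup.iff_card.mp (pCore_isPGroup p G)
    rw [hk] at h
    exact (Nat.prime_dvd_prime_iff_eq hq hp.out).mp (hq.dvd_of_dvd_pow h)

/-- `O_{p'}(G) = O_π(G)` for `π` the set of numbers different from `p`. -/
theorem piCore_compl_singleton (p : ℕ) [hp : Fact p.Prime] (G : Type u) [Group G] [Finite G] :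
    piCore ({p}ᶜ : Set ℕ) G = pPrimeCore p G := by
  refine le_antisymm (le_pPrimeCore inferInstance ?_) (le_piCore inferInstance fun q hq h hqp => ?_)
  · rw [Nat.coprime_comm, hp.out.coprime_iff_not_dvd]
    exact fun h => mem_of_prime_dvd_card_piCore (π := ({p}ᶜ : Set ℕ)) hp.out h rfl
  · have hqp' : q = p := hqp
    subst hqp'
    exact not_dvd_card_pPrimeCore h

end Cfsg.Agent.Lib.Cores
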