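import Cfsg.Prelude.Def_Transfer
import Cfsg.Agent.Lib.Cores.PCore

/-!
Basic API for `Cfsg.pResidual` and its relation to `Cfsg.HasNormalPComplement`.
-/

set_option autoImplicit false

namespace Cfsg.Agent.Lib.Cores

open Cfsg

variable {G H : Type*} [Group G] [Group H] {p : ℕ}

theorem mem_pResidual_of_coprime {g : G} (h : (orderOf g).Coprime p) : g ∈ pResidual p G :=
  Subgroup.subset_closure h

/-- The `p'`-part of the order: `g ^ (p ^ a)` has order prime to `p`. -/
theorem orderOf_pow_ordProj_coprime [Finite G] [hp : Fact p.Prime] (g : G) :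
    (orderOf (g ^ p ^ (orderOf g).factorization p)).Coprime p := by
  rw [orderOf_pow_of_dvd (pow_ne_zero _ hp.out.ne_zero) (Nat.ordProj_dvd _ _), Nat.coprime_comm]
  exact Nat.coprime_ordCompl hp.out (orderOf_pos g).ne'

theorem pow_ordProj_mem_pResidual [Finite G] [Fact p.Prime] (g : G) :
    g ^ p ^ (orderOf g).factorization p ∈ pResidual p G :=
  mem_pResidual_of_coprime (orderOf_pow_ordProj_coprime g)

theorem map_pResidual_le (f : G →* H) : (pResidual p G).map f ≤ pResidual p H := by
  rw [pResidual, MonoidHom.map_closure, Subgroup.closure_le]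
  rintro _ ⟨g, hg, rfl⟩
  exact mem_pResidual_of_coprime (hg.coprime_dvd_left (orderOf_map_dvd f g))

theorem map_pResidual_equiv (e : G ≃* H) :
    (pResidual p G).map e.toMonoidHom = pResidual p H := by
  refine le_antisymm (map_pResidual_le _) ?_
  intro y hy
  exact ⟨e.symm y, map_pResidual_le e.symm.toMonoidHom ⟨y, hy, rfl⟩, e.apply_symm_apply y⟩

instance pResidual_characteristic (p : ℕ) (G : Type*) [Group G] :
    (pResidual p G).Characteristic :=
  characteristic_of_map_le fun φ => map_pResidual_le φ.toMonoidHom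

theorem map_pResidual [Finite G] [hp : Fact p.Prime] (f : G →* H) (hf : Function.Surjective f) :
    (pResidual p G).map f = pResidual p H := by
  refine le_antisymm (map_pResidual_le f) ((Subgroup.closure_le _).mpr ?_)
  intro y hy
  obtain ⟨g, rfl⟩ := hf y
  have h1 : f g ^ p ^ (orderOf g).factorization p ∈ (pResidual p G).map f :=
    ⟨_, pow_ordProj_mem_pResidual g, map_pow f g _⟩
  have h2 := Subgroup.zpowers_le.mpr h1
  rw [SetLike.mem_coe]
  refine h2 ?_
  obtain ⟨k, hk⟩ := exists_pow_eq_self_of_coprime (n := p ^ (orderOf g).factorization p)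
    ((Nat.Coprime.symm hy).pow_left ((orderOf g).factorization p))
  exact ⟨k, by simpa using hk⟩

theorem isPGroup_quotient_pResidual [Finite G] [Fact p.Prime] :
    IsPGroup p (G ⧸ pResidual p G) := by
  intro x
  obtain ⟨g, rfl⟩ := QuotientGroup.mk'_surjective _ x
  exact ⟨_, by rw [← map_pow]; exact (QuotientGroup.eq_one_iff _).mpr (pow_ordProj_mem_pResidual g)⟩

theorem index_pResidual [Finite G] [Fact p.Prime] : ∃ k, (pResidual p G).index = p ^ k := by
  rw [Subgroup.index_eq_card]
  exact IsPGroup.iff_card.mp isPGroup_quotient_pResidual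

/-- A normal subgroup with `p`-group quotient contains `O^p(G)`. -/
theorem pResidual_le [hp : Fact p.Prime] {N : Subgroup G} [N.Normal] (h : IsPGroup p (G ⧸ N)) :
    pResidual p G ≤ N := by
  refine (Subgroup.closure_le _).mpr fun g hg => ?_
  have h1 : orderOf (g : G ⧸ N) ∣ orderOf g := orderOf_map_dvd (QuotientGroup.mk' N) g
  obtain ⟨k, hk⟩ := (IsPGroup.iff_orderOf.mp h) (g : G ⧸ N)
  rw [hk] at h1
  have h2 : (p ^ k).Coprime p := hg.coprime_dvd_left h1
  rcases Nat.eq_zero_or_pos k with rfl | hk0
  · rw [pow_zero, orderOf_eq_one_iff, QuotientGroup.eq_one_iff] at hk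
    exact hk
  · exact absurd h2 (by rw [Nat.coprime_pow_left_iff hk0, Nat.coprime_self]; exact hp.out.ne_one)

theorem pResidual_le_of_index [Finite G] [Fact p.Prime] {N : Subgroup G} [N.Normal] {k : ℕ}
    (h : N.index = p ^ k) : pResidual p G ≤ N :=
  pResidual_le (IsPGroup.of_card (n := k) (by rw [← Subgroup.index_eq_card]; exact h))

/-- Every subgroup of order prime to `p` lies in `O^p(G)`. -/
theorem le_pResidual_of_coprime {A : Subgroup G} (h : (Nat.card A).Coprime p) :
    A ≤ pResidual p G := fun a ha =>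
  mem_pResidual_of_coprime (h.coprime_dvd_left (by
    rw [← Subgroup.orderOf_mk a ha]; exact orderOf_dvd_natCard _))

theorem pPrimeCore_le_pResidual [Finite G] : pPrimeCore p G ≤ pResidual p G :=
  le_pResidual_of_coprime (pPrimeCore_coprime p G)

theorem pResidual_eq_bot_iff [Finite G] [hp : Fact p.Prime] :
    pResidual p G = ⊥ ↔ IsPGroup p G := by
  constructor
  · intro h g
    have h2 := pow_ordProj_mem_pResidual (p := p) g
    rw [h, Subgroup.mem_bot] at h2
    exact ⟨_, h2⟩
  · exact fun h => le_bot_iff.mp (pResidual_le (h.to_quotient ⊥))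

/-- `O^p(O^p(G)) = O^p(G)`. -/
theorem pResidual_pResidual (p : ℕ) (G : Type*) [Group G] :
    pResidual p (pResidual p G) = ⊤ := by
  rw [eq_top_iff, ← Subgroup.map_subtype_le_map_subtype, ← MonoidHom.range_eq_map,
    Subgroup.range_subtype]
  refine (Subgroup.closure_le _).mpr fun g hg => ?_
  exact ⟨⟨g, mem_pResidual_of_coprime hg⟩,
    mem_pResidual_of_coprime (by rwa [Subgroup.orderOf_mk]), rfl⟩

theorem sylow_sup_pResidual [Finite G] [hp : Fact p.Prime] (P : Sylow p G) :
    (P : Subgroup G) ⊔ pResidual p G = ⊤ := by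
  rw [← Subgroup.index_eq_one]
  by_contra hne
  obtain ⟨q, hq, hd⟩ := Nat.exists_prime_and_dvd hne
  obtain ⟨k, hk⟩ := index_pResidual (G := G) (p := p)
  have h1 := (hd.trans (Subgroup.index_dvd_of_le le_sup_right))
  rw [hk] at h1
  have hqp := (Nat.prime_dvd_prime_iff_eq hq hp.out).mp (hq.dvd_of_dvd_pow h1)
  subst hqp
  exact P.not_dvd_index (hd.trans (Subgroup.index_dvd_of_le le_sup_left))

/-- `O^p(G)` of a subgroup, viewed in the group. -/
theorem map_subtype_pResidual (A : Subgroup G) :
    (pResidual p A).map A.subtype = Subgroup.closure {g | g ∈ A ∧ (orderOf g).Coprime p} := by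
  rw [pResidual, MonoidHom.map_closure]
  congr 1
  ext g
  constructor
  · rintro ⟨a, ha, rfl⟩
    exact ⟨a.2, by simpa using ha⟩
  · rintro ⟨hg, hc⟩
    exact ⟨⟨g, hg⟩, show (orderOf (⟨g, hg⟩ : A)).Coprime p by rwa [Subgroup.orderOf_mk], rfl⟩

theorem map_subtype_pResidual_le (A : Subgroup G) :
    (pResidual p A).map A.subtype ≤ pResidual p G :=
  map_pResidual_le A.subtype

theorem map_subtype_pResidual_mono {A B : Subgroup G} (h : A ≤ B) :
    (pResidual p A).map A.subtype ≤ (pResidual p B).map B.subtype := by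
  rw [map_subtype_pResidual, map_subtype_pResidual]
  exact Subgroup.closure_mono fun g hg => ⟨h hg.1, hg.2⟩

theorem hasNormalPComplement_iff_pResidual [Finite G] [hp : Fact p.Prime] :
    HasNormalPComplement p G ↔ (Nat.card (pResidual p G)).Coprime p := by
  constructor
  · rintro ⟨P, N, hN, hNP⟩
    have hc : (Nat.card N).Coprime p := by
      have h1 := P.not_dvd_index
      rw [hNP.index_eq_card] at h1
      exact (hp.out.coprime_iff_not_dvd.mpr h1).symm
    obtain ⟨k, hk⟩ := IsPGroup.iff_card.mp P.isPGroup'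
    have hle : pResidual p G ≤ N := pResidual_le_of_index (k := k) (by
      rw [hNP.symm.index_eq_card, hk])
    exact hc.coprime_dvd_left (Subgroup.card_dvd_of_le hle)
  · intro h
    obtain ⟨P⟩ := (Sylow.nonempty : Nonempty (Sylow p G))
    refine ⟨P, pResidual p G, inferInstance, ?_⟩
    obtain ⟨k, hk⟩ := IsPGroup.iff_card.mp P.isPGroup'
    refine Subgroup.isComplement'_of_disjoint_and_mul_eq_univ ?_ ?_
    · refine Subgroup.disjoint_of_coprime_natCard ?_
      rw [hk]
      exact h.pow_right k
    · rw [← Subgroup.normal_mul, sup_comm, sylow_sup_pResidual, Subgroup.coe_top]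

theorem hasNormalPComplement_iff_pPrimeCore [Finite G] [hp : Fact p.Prime] :
    HasNormalPComplement p G ↔ IsPGroup p (G ⧸ pPrimeCore p G) := by
  rw [hasNormalPComplement_iff_pResidual]
  constructor
  · intro h
    have heq : pPrimeCore p G = pResidual p G :=
      le_antisymm pPrimeCore_le_pResidual (le_pPrimeCore inferInstance h)
    obtain ⟨k, hk⟩ := index_pResidual (G := G) (p := p)
    exact IsPGroup.of_card (n := k) (by rw [← Subgroup.index_eq_card, heq, hk])
  · exact fun h => (pPrimeCore_coprime p G).coprime_dvd_left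
      (Subgroup.card_dvd_of_le (pResidual_le h))

end Cfsg.Agent.Lib.Cores
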