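import Mathlib.GroupTheory.SpecificGroups.Cyclic
import Mathlib.Algebra.Group.Subgroup.Finite
import Mathlib.Data.SetLike.Fintype
import Mathlib.Tactic
import Mathlib.GroupTheory.PGroup
import Mathlib.GroupTheory.Index

/-! Elementary facts on p-groups with large centre. -/

set_option autoImplicit false

namespace Cfsg.Agent.Lib.Cores

variable {G : Type*} [Group G] [Finite G] {p : ℕ} [Fact p.Prime]

theorem isMulCommutative_of_center_index_dvd (h : (Subgroup.center G).index ∣ p) :
    IsMulCommutative G := by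
  haveI : IsCyclic (G ⧸ Subgroup.center G) := by
    rcases (Nat.dvd_prime Fact.out).mp h with h1 | h1
    · rw [Subgroup.index] at h1
      haveI := (Nat.card_eq_one_iff_unique.mp h1).1
      exact isCyclic_of_subsingleton
    · exact isCyclic_of_prime_card h1
  exact ⟨⟨commutative_of_cyclic_center_quotient (QuotientGroup.mk' (Subgroup.center G)) (by rw [QuotientGroup.ker_mk'])⟩⟩

theorem le_center_index (hG : IsPGroup p G) (hna : ¬ IsMulCommutative G) :
    p ^ 2 ∣ (Subgroup.center G).index := by
  obtain ⟨k, hk⟩ := hG.index (Subgroup.center G)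
  rw [hk]
  refine pow_dvd_pow p ?_
  by_contra hlt
  refine hna (isMulCommutative_of_center_index_dvd (p := p) ?_)
  rw [hk]
  exact (pow_dvd_pow p (show k ≤ 1 by omega)).trans (by rw [pow_one])

theorem card_center_of_card_cube (hG : IsPGroup p G) (hc : Nat.card G = p ^ 3)
    (hna : ¬ IsMulCommutative G) : Nat.card (Subgroup.center G) = p := by
  have hp := (Fact.out : p.Prime)
  haveI : Nontrivial G := Finite.one_lt_card_iff_nontrivial.mp (by
    rw [hc]; exact Nat.one_lt_pow (by norm_num) hp.one_lt)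
  haveI := hG.center_nontrivial
  obtain ⟨i, hi⟩ := IsPGroup.iff_card.mp (hG.to_subgroup (Subgroup.center G))
  obtain ⟨j, hj⟩ := le_center_index hG hna
  have h := (Subgroup.center G).card_mul_index
  rw [hi, hj, hc] at h
  have h1 : i ≠ 0 := by
    rintro rfl
    exact absurd hi (by rw [pow_zero]; exact (Finite.one_lt_card).ne')
  have h2 : p ^ (i + 2) ∣ p ^ 3 := ⟨j, by rw [← h]; ring⟩
  have := (Nat.pow_dvd_pow_iff_le_right hp.one_lt).mp h2
  rw [hi, show i = 1 by omega, pow_one]

/-- A group of order `p ^ 2` and exponent `p` has `p + 1` subgroups of order `p`. -/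
theorem card_subgroups_of_order_sq (hexp : ∀ x : G, x ^ p = 1) (hc : Nat.card G = p ^ 2) :
    Nat.card {K : Subgroup G // Nat.card K = p} = p + 1 := by
  classical
  have hp := (Fact.out : p.Prime)
  have hord : ∀ x : G, x ≠ 1 → Nat.card (Subgroup.zpowers x) = p := fun x hx => by
    rw [Nat.card_zpowers]; exact orderOf_eq_prime (hexp x) hx
  have key : ∀ (K : {K : Subgroup G // Nat.card K = p}) (x : G), x ∈ K.1 → x ≠ 1 →
      Subgroup.zpowers x = K.1 := fun K x hxK hx =>
    Subgroup.eq_of_le_of_card_ge (Subgroup.zpowers_le.mpr hxK) (by rw [hord x hx, K.2])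
  let e : (Σ K : {K : Subgroup G // Nat.card K = p}, {x : K.1 // x ≠ 1}) ≃ {x : G // x ≠ 1} :=
    Equiv.ofBijective (fun s => ⟨(s.2.1 : G), fun h => s.2.2 (Subtype.ext h)⟩) ⟨by
      rintro ⟨K, ⟨⟨a, ha⟩, ha1⟩⟩ ⟨L, ⟨⟨b, hb⟩, hb1⟩⟩ h
      have hab : a = b := congrArg Subtype.val h
      subst hab
      have hne : a ≠ 1 := fun e => ha1 (Subtype.ext e)
      obtain rfl : K = L := Subtype.ext ((key K a ha hne).symm.trans (key L a hb hne))
      rfl, fun x => ⟨⟨⟨Subgroup.zpowers (x : G), hord x x.2⟩, ⟨⟨x, Subgroup.mem_zpowers _⟩,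
        fun h => x.2 (congrArg Subtype.val h)⟩⟩, rfl⟩⟩
  haveI : Finite (Subgroup G) := inferInstance
  haveI : Fintype {K : Subgroup G // Nat.card K = p} := Fintype.ofFinite _
  have h := Nat.card_congr e
  rw [Nat.card_sigma] at h
  have hne : ∀ (H : Type _) [Group H] [Finite H], Nat.card {x : H // x ≠ 1} + 1 = Nat.card H := by
    intro H _ _
    haveI := Fintype.ofFinite H
    simp only [Nat.card_eq_fintype_card, Fintype.card_subtype_compl, Fintype.card_subtype_eq]
    have := Fintype.card_pos (α := H)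
    omega
  have h1 : ∀ K : {K : Subgroup G // Nat.card K = p}, Nat.card {x : K.1 // x ≠ 1} = p - 1 := by
    intro K
    have := hne K.1
    have := K.2
    omega
  simp only [h1, Finset.sum_const, Finset.card_univ, smul_eq_mul, ← Nat.card_eq_fintype_card] at h
  have h2 := hne G
  rw [← h, hc] at h2
  obtain ⟨q, rfl⟩ : ∃ q, p = q + 2 := ⟨p - 2, by have := hp.two_le; omega⟩
  simp only [Nat.add_succ_sub_one] at h2
  set N := Nat.card {K : Subgroup G // Nat.card K = q + 2}
  have : N * (q + 1) = (q + 3) * (q + 1) := by nlinarith [h2]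
  exact Nat.eq_of_mul_eq_mul_right (by omega) this

end Cfsg.Agent.Lib.Cores
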