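import Mathlib

/-!
The Lie ring associated with the lower central series of a group.
-/

set_option autoImplicit false

open scoped commutatorElement DirectSum

namespace Cfsg.Agent.Lib.Cores.AssocLie

variable (G : Type*) [Group G]

/-- The terms of the lower central series. -/
abbrev γ (k : ℕ) : Subgroup G := (⊤ : Subgroup G).lowerCentralSeries k

theorem commutator_γ_le : ∀ j i, ⁅γ G i, γ G j⁆ ≤ γ G (i + j + 1) := by
  intro j
  induction j with
  | zero => exact fun i => le_rfl
  | succ j ih =>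
    intro i
    set N := γ G (i + (j + 1) + 1)
    have hb : ∀ A B C : Subgroup G, ⁅⁅A, B⁆, C⁆ ≤ N →
        ⁅⁅A.map (QuotientGroup.mk' N), B.map (QuotientGroup.mk' N)⁆,
          C.map (QuotientGroup.mk' N)⁆ = ⊥ := by
      intro A B C h
      rwa [← Subgroup.map_commutator, ← Subgroup.map_commutator, Subgroup.map_eq_bot_iff,
        QuotientGroup.ker_mk']
    have h1 : ⁅⁅(⊤ : Subgroup G), γ G i⁆, γ G j⁆ ≤ N := by
      rw [Subgroup.commutator_comm (⊤ : Subgroup G) (γ G i)]
      exact (ih (i + 1)).trans (le_of_eq (congrArg (γ G) (by omega)))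
    have h2 : ⁅⁅γ G i, γ G j⁆, (⊤ : Subgroup G)⁆ ≤ N :=
      (Subgroup.commutator_mono (ih i) le_rfl).trans
        (le_of_eq (congrArg (γ G) (show i + j + 1 + 1 = i + (j + 1) + 1 by omega)))
    have h3 := Subgroup.commutator_commutator_eq_bot_of_rotate (hb _ _ _ h1) (hb _ _ _ h2)
    rw [← Subgroup.map_commutator, ← Subgroup.map_commutator, Subgroup.map_eq_bot_iff,
      QuotientGroup.ker_mk'] at h3
    rw [Subgroup.commutator_comm]
    exact h3

/-- The factors of the lower central series. -/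
abbrev Factor (k : ℕ) : Type _ := γ G k ⧸ (γ G (k + 1)).subgroupOf (γ G k)

instance factorCommGroup (k : ℕ) : CommGroup (Factor G k) :=
  { (inferInstance : Group (Factor G k)) with
    mul_comm := by
      intro a b
      obtain ⟨a, rfl⟩ := QuotientGroup.mk'_surjective _ a
      obtain ⟨b, rfl⟩ := QuotientGroup.mk'_surjective _ b
      rw [← commutatorElement_eq_one_iff_mul_comm, ← map_commutatorElement]
      refine (QuotientGroup.eq_one_iff _).mpr (Subgroup.mem_subgroupOf.mpr ?_)
      exact (Subgroup.lowerCentralSeries_antitone _ (by omega : k + 1 ≤ k + k + 1))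
        (commutator_γ_le G k k (Subgroup.commutator_mem_commutator a.2 b.2)) }

/-- The associated Lie ring. -/
abbrev L : Type _ := ⨁ k : ℕ, Additive (Factor G k)

variable {G}

open scoped Classical in
/-- The class of an element in a given degree. -/
noncomputable def e (k : ℕ) (x : G) : L G :=
  if h : x ∈ γ G k then
    DirectSum.of (fun k => Additive (Factor G k)) k (Additive.ofMul (QuotientGroup.mk ⟨x, h⟩))
  else 0

theorem e_eq (k : ℕ) (x : G) (h : x ∈ γ G k) :
    e k x = DirectSum.of (fun k => Additive (Factor G k)) k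
      (Additive.ofMul (QuotientGroup.mk ⟨x, h⟩)) := dif_pos h

theorem e_mul {k : ℕ} {x y : G} (hx : x ∈ γ G k) (hy : y ∈ γ G k) :
    e k (x * y) = e k x + e k y := by
  rw [e_eq k x hx, e_eq k y hy, e_eq k _ (mul_mem hx hy), ← map_add]
  rfl

theorem e_zero {k : ℕ} {x : G} (h : x ∈ γ G (k + 1)) : e k x = 0 := by
  have hx : x ∈ γ G k := Subgroup.lowerCentralSeries_antitone _ (Nat.le_succ k) h
  rw [e_eq k x hx, show (QuotientGroup.mk (⟨x, hx⟩ : γ G k) : Factor G k) = 1 from
    (QuotientGroup.eq_one_iff _).mpr (Subgroup.mem_subgroupOf.mpr h), ofMul_one, map_zero]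

theorem e_one (k : ℕ) : e k (1 : G) = 0 := e_zero (one_mem _)

theorem e_inv {k : ℕ} {x : G} (hx : x ∈ γ G k) : e k x⁻¹ = -e k x := by
  refine eq_neg_of_add_eq_zero_left ?_
  rw [← e_mul (inv_mem hx) hx, inv_mul_cancel, e_one]

theorem e_conj {k : ℕ} {x : G} (hx : x ∈ γ G k) (a : G) : e k (a * x * a⁻¹) = e k x := by
  have h : ⁅a, x⁆ ∈ γ G (k + 1) := by
    rw [← commutatorElement_inv]
    exact inv_mem (Subgroup.commutator_mem_commutator hx (Subgroup.mem_top a))
  rw [show a * x * a⁻¹ = ⁅a, x⁆ * x by rw [commutatorElement_def]; group,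
    e_mul (Subgroup.lowerCentralSeries_antitone _ (Nat.le_succ k) h) hx, e_zero h, zero_add]

theorem mem_comm {i j : ℕ} {a b : G} (ha : a ∈ γ G i) (hb : b ∈ γ G j) :
    ⁅a, b⁆ ∈ γ G (i + j + 1) :=
  commutator_γ_le G j i (Subgroup.commutator_mem_commutator ha hb)

theorem e_comm_left {i j : ℕ} {a b c : G} (ha : a ∈ γ G i) (hb : b ∈ γ G i) (hc : c ∈ γ G j) :
    e (i + j + 1) ⁅a * b, c⁆ = e (i + j + 1) ⁅a, c⁆ + e (i + j + 1) ⁅b, c⁆ := by
  have h : ⁅a * b, c⁆ = (a * ⁅b, c⁆ * a⁻¹) * ⁅a, c⁆ := by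
    simp only [commutatorElement_def]; group
  have hn : ((⊤ : Subgroup G).lowerCentralSeries (i + j + 1)).Normal := inferInstance
  rw [h, e_mul (hn.conj_mem _ (mem_comm hb hc) a) (mem_comm ha hc), e_conj (mem_comm hb hc),
    add_comm]

theorem e_comm_right {i j : ℕ} {a b c : G} (ha : a ∈ γ G i) (hb : b ∈ γ G j) (hc : c ∈ γ G j) :
    e (i + j + 1) ⁅a, b * c⁆ = e (i + j + 1) ⁅a, b⁆ + e (i + j + 1) ⁅a, c⁆ := by
  have h : ⁅a, b * c⁆ = ⁅a, b⁆ * (b * ⁅a, c⁆ * b⁻¹) := by
    simp only [commutatorElement_def]; group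
  have hn : ((⊤ : Subgroup G).lowerCentralSeries (i + j + 1)).Normal := inferInstance
  rw [h, e_mul (mem_comm ha hb) (hn.conj_mem _ (mem_comm ha hc) b), e_conj (mem_comm ha hc)]

theorem e_comm_inv_left {i j : ℕ} {a c : G} (ha : a ∈ γ G i) (hc : c ∈ γ G j) :
    e (i + j + 1) ⁅a⁻¹, c⁆ = -e (i + j + 1) ⁅a, c⁆ := by
  refine eq_neg_of_add_eq_zero_left ?_
  rw [← e_comm_left (inv_mem ha) ha hc, inv_mul_cancel, commutatorElement_one_left, e_one]

theorem e_comm_inv_right {i j : ℕ} {a c : G} (ha : a ∈ γ G i) (hc : c ∈ γ G j) :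
    e (i + j + 1) ⁅a, c⁻¹⁆ = -e (i + j + 1) ⁅a, c⁆ := by
  refine eq_neg_of_add_eq_zero_left ?_
  rw [← e_comm_right ha (inv_mem hc) hc, inv_mul_cancel, commutatorElement_one_right, e_one]

theorem e_comm_zero_left {i j : ℕ} {a c : G} (ha : a ∈ γ G (i + 1)) (hc : c ∈ γ G j) :
    e (i + j + 1) ⁅a, c⁆ = 0 :=
  e_zero (by rw [show i + j + 1 + 1 = i + 1 + j + 1 by omega]; exact mem_comm ha hc)

theorem e_comm_zero_right {i j : ℕ} {a c : G} (ha : a ∈ γ G i) (hc : c ∈ γ G (j + 1)) :
    e (i + j + 1) ⁅a, c⁆ = 0 :=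
  e_zero (by rw [show i + j + 1 + 1 = i + (j + 1) + 1 by omega]; exact mem_comm ha hc)

/-- An additive map on a factor from a function on the term. -/
def liftFactor {A : Type*} [AddCommGroup A] (k : ℕ) (f : γ G k → A)
    (hadd : ∀ x y, f (x * y) = f x + f y) (hzero : ∀ x : γ G k, (x : G) ∈ γ G (k + 1) → f x = 0) :
    Additive (Factor G k) →+ A :=
  MonoidHom.toAdditiveLeft (QuotientGroup.lift _
    (MonoidHom.mk' (fun x => Multiplicative.ofAdd (f x))
      (fun x y => congrArg Multiplicative.ofAdd (hadd x y)))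
    fun x hx => congrArg Multiplicative.ofAdd (hzero x (Subgroup.mem_subgroupOf.mp hx)))

theorem liftFactor_mk {A : Type*} [AddCommGroup A] (k : ℕ) (f : γ G k → A)
    (hadd : ∀ x y, f (x * y) = f x + f y) (hzero : ∀ x : γ G k, (x : G) ∈ γ G (k + 1) → f x = 0)
    (x : γ G k) : liftFactor k f hadd hzero (Additive.ofMul (QuotientGroup.mk x)) = f x := rfl

/-- Bracketing with a fixed element of degree `i`. -/
noncomputable def adOf (i : ℕ) (a : γ G i) : L G →+ L G :=
  DirectSum.toAddMonoid fun j => liftFactor j (fun b => e (i + j + 1) ⁅(a : G), (b : G)⁆)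
    (fun x y => e_comm_right a.2 x.2 y.2) (fun x hx => e_comm_zero_right a.2 hx)

theorem adOf_e (i j : ℕ) (a : γ G i) (b : G) (hb : b ∈ γ G j) :
    adOf i a (e j b) = e (i + j + 1) ⁅(a : G), b⁆ := by
  rw [e_eq j b hb, adOf, DirectSum.toAddMonoid_of, liftFactor_mk]

theorem hom_ext {A : Type*} [AddCommGroup A] {f g : L G →+ A}
    (h : ∀ k x, x ∈ γ G k → f (e k x) = g (e k x)) : f = g := by
  refine DirectSum.addHom_ext fun k w => ?_
  obtain ⟨⟨x, hx⟩, hxw⟩ := QuotientGroup.mk_surjective (Additive.toMul w)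
  have := h k x hx
  rw [e_eq k x hx, hxw] at this
  exact this

/-- The bracket as a biadditive map. -/
noncomputable def bracketHom : L G →+ L G →+ L G :=
  DirectSum.toAddMonoid fun i => liftFactor i (fun a => adOf i a)
    (fun x y => hom_ext fun k b hb => by
      rw [AddMonoidHom.add_apply, adOf_e i k _ b hb, adOf_e i k _ b hb, adOf_e i k _ b hb]
      exact e_comm_left x.2 y.2 hb)
    (fun x hx => hom_ext fun k b hb => by
      rw [adOf_e i k _ b hb, AddMonoidHom.zero_apply]
      exact e_comm_zero_left hx hb)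

theorem bracketHom_e {i j : ℕ} {a b : G} (ha : a ∈ γ G i) (hb : b ∈ γ G j) :
    bracketHom (e i a) (e j b) = e (i + j + 1) ⁅a, b⁆ := by
  rw [e_eq i a ha, bracketHom, DirectSum.toAddMonoid_of, liftFactor_mk, adOf_e i j _ b hb]

theorem hom_ext₂ {A : Type*} [AddCommGroup A] {f g : L G →+ L G →+ A}
    (h : ∀ i a, a ∈ γ G i → ∀ j b, b ∈ γ G j → f (e i a) (e j b) = g (e i a) (e j b)) : f = g :=
  hom_ext fun i a ha => hom_ext fun j b hb => h i a ha j b hb

theorem bracketHom_skew (x y : L G) : bracketHom x y + bracketHom y x = 0 := by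
  have h : (bracketHom (G := G)) + (bracketHom (G := G)).flip = 0 :=
    hom_ext₂ fun i a ha j b hb => by
      simp only [AddMonoidHom.add_apply, AddMonoidHom.flip_apply, AddMonoidHom.zero_apply]
      rw [bracketHom_e ha hb, bracketHom_e hb ha, show j + i + 1 = i + j + 1 by omega,
        ← commutatorElement_inv a b, e_inv (mem_comm ha hb), add_neg_cancel]
  exact DFunLike.congr_fun (DFunLike.congr_fun h x) y

theorem bracketHom_self (x : L G) : bracketHom x x = 0 := by
  induction x using DirectSum.induction_on with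
  | zero => simp
  | of k w =>
    obtain ⟨⟨a, ha⟩, hxw⟩ := QuotientGroup.mk_surjective (Additive.toMul w)
    have he : DirectSum.of (fun k => Additive (Factor G k)) k w = e k a := by
      rw [e_eq k a ha, hxw]; rfl
    rw [he, bracketHom_e ha ha, commutatorElement_self, e_one]
  | add x y hx hy =>
    simp only [map_add, AddMonoidHom.add_apply, hx, hy, zero_add, add_zero]
    rw [add_comm]
    exact bracketHom_skew x y

theorem bracketHom_jacobi {i j l : ℕ} {x y z : G} (hx : x ∈ γ G i) (hy : y ∈ γ G j)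
    (hz : z ∈ γ G l) :
    bracketHom (e l z) (bracketHom (e i x) (e j y)) +
      bracketHom (e j y) (bracketHom (e l z) (e i x)) +
      bracketHom (e i x) (bracketHom (e j y) (e l z)) = 0 := by
  rw [bracketHom_e hx hy, bracketHom_e hz hx, bracketHom_e hy hz,
    bracketHom_e hz (mem_comm hx hy), bracketHom_e hy (mem_comm hz hx),
    bracketHom_e hx (mem_comm hy hz)]
  have e1 : l + (i + j + 1) + 1 = i + (j + l + 1) + 1 := by omega
  have e2 : j + (l + i + 1) + 1 = i + (j + l + 1) + 1 := by omega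
  rw [e1, e2]
  set k := i + (j + l + 1) + 1
  have hn : ((⊤ : Subgroup G).lowerCentralSeries k).Normal := inferInstance
  have m2 : ⁅y, ⁅z⁻¹, x⁻¹⁆⁆ ∈ γ G k := e2 ▸ mem_comm hy (mem_comm (inv_mem hz) (inv_mem hx))
  have m3 : ⁅x⁻¹, ⁅y⁻¹, z⁆⁆ ∈ γ G k := mem_comm (inv_mem hx) (mem_comm (inv_mem hy) hz)
  have hw : ⁅z, ⁅x, y⁆⁆ =
      x * (z * ⁅y, ⁅z⁻¹, x⁻¹⁆⁆⁻¹ * z⁻¹ * (y * ⁅x⁻¹, ⁅y⁻¹, z⁆⁆⁻¹ * y⁻¹)) * x⁻¹ := by
    simp only [commutatorElement_def]; group
  have m4 := hn.conj_mem _ (inv_mem m2) z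
  have m5 := hn.conj_mem _ (inv_mem m3) y
  rw [hw, e_conj (mul_mem m4 m5), e_mul m4 m5, e_conj (inv_mem m2), e_conj (inv_mem m3), e_inv m2,
    e_inv m3]
  have s2 : e k ⁅y, ⁅z⁻¹, x⁻¹⁆⁆ = e k ⁅y, ⁅z, x⁆⁆ := by
    rw [← e2, ← bracketHom_e hy (mem_comm (inv_mem hz) (inv_mem hx)),
      e_comm_inv_left hz (inv_mem hx), e_comm_inv_right hz hx, neg_neg,
      bracketHom_e hy (mem_comm hz hx)]
  have s3 : e k ⁅x⁻¹, ⁅y⁻¹, z⁆⁆ = e k ⁅x, ⁅y, z⁆⁆ := by
    rw [← bracketHom_e (inv_mem hx) (mem_comm (inv_mem hy) hz), e_inv hx, e_comm_inv_left hy hz,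
      map_neg, map_neg, AddMonoidHom.neg_apply, neg_neg, bracketHom_e hx (mem_comm hy hz)]
  rw [s2, s3]
  abel

theorem bracketHom_leibniz (x y z : L G) :
    bracketHom x (bracketHom y z) =
      bracketHom (bracketHom x y) z + bracketHom y (bracketHom x z) := by
  induction x using DirectSum.induction_on with
  | zero => simp
  | add x x' hx hx' =>
    simp only [map_add, AddMonoidHom.add_apply, hx, hx']
    abel
  | of i w =>
    induction y using DirectSum.induction_on with
    | zero => simp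
    | add y y' hy hy' =>
      simp only [map_add, AddMonoidHom.add_apply, hy, hy']
      abel
    | of j v =>
      induction z using DirectSum.induction_on with
      | zero => simp
      | add z z' hz hz' =>
        simp only [map_add, hz, hz']
        abel
      | of l u =>
        obtain ⟨⟨a, ha⟩, haw⟩ := QuotientGroup.mk_surjective (Additive.toMul w)
        obtain ⟨⟨b, hb⟩, hbw⟩ := QuotientGroup.mk_surjective (Additive.toMul v)
        obtain ⟨⟨c, hc⟩, hcw⟩ := QuotientGroup.mk_surjective (Additive.toMul u)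
        have he1 : DirectSum.of (fun k => Additive (Factor G k)) i w = e i a := by
          rw [e_eq i a ha, haw]; rfl
        have he2 : DirectSum.of (fun k => Additive (Factor G k)) j v = e j b := by
          rw [e_eq j b hb, hbw]; rfl
        have he3 : DirectSum.of (fun k => Additive (Factor G k)) l u = e l c := by
          rw [e_eq l c hc, hcw]; rfl
        rw [he1, he2, he3]
        have hj := bracketHom_jacobi ha hb hc
        have hs1 := bracketHom_skew (bracketHom (e i a) (e j b)) (e l c)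
        have hs2 : bracketHom (e j b) (bracketHom (e l c) (e i a)) =
            -bracketHom (e j b) (bracketHom (e i a) (e l c)) := by
          rw [← map_neg]
          exact congrArg _ (eq_neg_of_add_eq_zero_left (bracketHom_skew (e l c) (e i a)))
        rw [hs2, eq_neg_of_add_eq_zero_right hs1] at hj
        rw [← sub_eq_zero, ← hj]
        abel

noncomputable instance instLieRing : LieRing (L G) where
  bracket x y := bracketHom x y
  add_lie x y z := by simp
  lie_add x y z := by simp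
  lie_self := bracketHom_self
  leibniz_lie := bracketHom_leibniz

theorem lie_e {i j : ℕ} {a b : G} (ha : a ∈ γ G i) (hb : b ∈ γ G j) :
    ⁅e i a, e j b⁆ = e (i + j + 1) ⁅a, b⁆ := bracketHom_e ha hb

theorem apply_mem_γ (α : G →* G) {k : ℕ} {x : G} (hx : x ∈ γ G k) : α x ∈ γ G k := by
  have key : ∀ k, (γ G k).map α ≤ γ G k := by
    intro k
    induction k with
    | zero => exact le_top
    | succ k ih =>
      show (⁅γ G k, (⊤ : Subgroup G)⁆).map α ≤ _
      rw [Subgroup.map_commutator]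
      exact Subgroup.commutator_mono ih le_top
  exact key k ⟨x, hx, rfl⟩

/-- The map induced by an endomorphism. -/
noncomputable def mapHom (α : G →* G) : L G →+ L G :=
  DirectSum.toAddMonoid fun k => liftFactor k (fun x => e k (α x))
    (fun x y => by rw [Subgroup.coe_mul, map_mul]; exact e_mul (apply_mem_γ α x.2) (apply_mem_γ α y.2))
    (fun x hx => e_zero (apply_mem_γ α hx))

theorem mapHom_e (α : G →* G) {k : ℕ} {x : G} (hx : x ∈ γ G k) :
    mapHom α (e k x) = e k (α x) := by
  rw [e_eq k x hx, mapHom, DirectSum.toAddMonoid_of, liftFactor_mk]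

theorem mapHom_lie (α : G →* G) (x y : L G) : mapHom α ⁅x, y⁆ = ⁅mapHom α x, mapHom α y⁆ := by
  have h : (AddMonoidHom.compHom (mapHom α)).comp (bracketHom (G := G)) =
      (((bracketHom (G := G)).comp (mapHom α)).flip.comp (mapHom α)).flip :=
    hom_ext₂ fun i a ha j b hb => by
      show mapHom α (bracketHom (e i a) (e j b)) =
        bracketHom (mapHom α (e i a)) (mapHom α (e j b))
      rw [bracketHom_e ha hb, mapHom_e α (mem_comm ha hb), mapHom_e α ha, mapHom_e α hb,
        bracketHom_e (apply_mem_γ α ha) (apply_mem_γ α hb), map_commutatorElement]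
  exact DFunLike.congr_fun (DFunLike.congr_fun h x) y

theorem mem_of_e_eq_zero {k : ℕ} {x : G} (hx : x ∈ γ G k) (h : e k x = 0) : x ∈ γ G (k + 1) := by
  rw [e_eq k x hx, ← map_zero (DirectSum.of (fun k => Additive (Factor G k)) k)] at h
  have h1 : (QuotientGroup.mk (⟨x, hx⟩ : γ G k) : Factor G k) = 1 :=
    congrArg Additive.toMul (DirectSum.of_injective k h)
  exact Subgroup.mem_subgroupOf.mp ((QuotientGroup.eq_one_iff _).mp h1)

end Cfsg.Agent.Lib.Cores.AssocLie
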