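import Cfsg.Agent.Lib.Transfer.Frobenius
import Mathlib

/-!
Counting conjugacy classes of `π`-elements.
-/

set_option autoImplicit false

namespace Cfsg.Agent.Lib.Cores.ClassCount

open scoped Classical

universe u

/-- Orbit counting: fibres off `F` have at least `r` points. -/
theorem mul_card_le_of_fibers {X Y : Type*} [Finite X] (f : X → Y) (hf : Function.Surjective f)
    (F : Set X) (r : ℕ) (hr : 1 ≤ r)
    (h : ∀ x ∉ F, r ≤ Nat.card {z : X // f z = f x}) :
    r * Nat.card Y ≤ Nat.card X + (r - 1) * Nat.card F := by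
  have : Finite Y := Finite.of_surjective f hf
  have := Fintype.ofFinite X
  have := Fintype.ofFinite Y
  simp only [Nat.card_eq_fintype_card] at h ⊢
  set Fs : Finset X := Finset.univ.filter (· ∈ F) with hFs
  have hF : Fintype.card F = Fs.card := by
    rw [hFs, ← Fintype.card_subtype]
  set A : Finset Y := Fs.image f with hA
  have hrest : ∀ y ∈ Aᶜ, r ≤ ((Fsᶜ).filter fun x => f x = y).card := by
    intro y hy
    obtain ⟨x, rfl⟩ := hf y
    rw [Finset.mem_compl, hA, Finset.mem_image] at hy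
    have hx : x ∉ F := fun hx => hy ⟨x, by simp [hFs, hx], rfl⟩
    refine le_trans (h x hx) (le_of_eq ?_)
    rw [Fintype.card_subtype]
    congr 1
    ext z
    simp only [Finset.mem_filter, Finset.mem_univ, true_and, Finset.mem_compl, iff_and_self]
    exact fun hz hzF => hy ⟨z, hzF, hz⟩
  have h1 : Aᶜ.card * r ≤ (Fsᶜ).card := by
    calc Aᶜ.card * r = ∑ _y ∈ Aᶜ, r := by rw [Finset.sum_const, smul_eq_mul]
      _ ≤ ∑ y ∈ Aᶜ, ((Fsᶜ).filter fun x => f x = y).card := Finset.sum_le_sum hrest
      _ ≤ ∑ y, ((Fsᶜ).filter fun x => f x = y).card :=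
        Finset.sum_le_sum_of_subset (Finset.subset_univ _)
      _ = (Fsᶜ).card :=
        (Finset.card_eq_sum_card_fiberwise fun x _ => Finset.mem_univ (f x)).symm
  have h2 : A.card ≤ Fs.card := Finset.card_image_le
  have h3 := Finset.card_add_card_compl A
  have h4 := Finset.card_add_card_compl Fs
  obtain ⟨s, rfl⟩ := Nat.exists_eq_add_of_le' hr
  rw [hF, ← h3, ← h4, Nat.add_sub_cancel]
  nlinarith

variable {G : Type u} [Group G]

/-- `π`-elements. -/
def Pi (S : Finset ℕ) (x : G) : Prop := ∀ r : ℕ, r.Prime → r ∣ orderOf x → r ∈ S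

theorem Pi.of_isConj {S : Finset ℕ} {x y : G} (hx : Pi S x) (h : IsConj x y) : Pi S y := by
  obtain ⟨c, rfl⟩ := isConj_iff.mp h
  intro r hr hd
  refine hx r hr ?_
  rwa [← MulAut.conj_apply, MulEquiv.orderOf_eq] at hd

/-- `p`-elements. -/
theorem pi_singleton [Finite G] {p : ℕ} (hp : p.Prime) (x : G) :
    Pi {p} x ↔ ∃ k : ℕ, orderOf x = p ^ k := by
  constructor
  · intro h
    exact ⟨_, Nat.eq_prime_pow_of_unique_prime_dvd (orderOf_pos x).ne'
      fun hr hd => Finset.mem_singleton.mp (h _ hr hd)⟩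
  · rintro ⟨k, hk⟩ r hr hd
    rw [hk] at hd
    exact Finset.mem_singleton.mpr ((Nat.prime_dvd_prime_iff_eq hr hp).mp (hr.dvd_of_dvd_pow hd))

variable (G) in
/-- The number of classes of `π`-elements. -/
noncomputable def k (S : Finset ℕ) : ℕ :=
  Nat.card {c : ConjClasses G // ∀ x ∈ c.carrier, Pi S x}

variable (G) in
/-- The `π`-part of the order. -/
noncomputable def part (S : Finset ℕ) : ℕ := S.prod fun r => r ^ (Nat.card G).factorization r

theorem k_eq [Finite G] {p : ℕ} (hp : p.Prime) :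
    k G {p} =
      Nat.card {c : ConjClasses G // ∀ x ∈ c.carrier, ∃ k : ℕ, orderOf x = p ^ k} :=
  Nat.card_congr (Equiv.subtypeEquivRight fun c =>
    ⟨fun h x hx => (pi_singleton hp x).mp (h x hx), fun h x hx => (pi_singleton hp x).mpr (h x hx)⟩)

theorem mk_mem_iff {S : Finset ℕ} (x : G) :
    (∀ y ∈ (ConjClasses.mk x).carrier, Pi S y) ↔ Pi S x :=
  ⟨fun h => h x ConjClasses.mem_carrier_mk, fun h y hy =>
    h.of_isConj (ConjClasses.mk_eq_mk_iff_isConj.mp (ConjClasses.mem_carrier_iff_mk_eq.mp hy).symm)⟩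

/-- Every `p`-element is conjugate into a given Sylow subgroup. -/
theorem exists_conj_mem_sylow [Finite G] {p : ℕ} [hp : Fact p.Prime] (P : Sylow p G) {x : G}
    (hx : Pi {p} x) : ∃ y : (P : Subgroup G), IsConj (y : G) x := by
  obtain ⟨j, hj⟩ := (pi_singleton hp.out x).mp hx
  obtain ⟨Q, hQ⟩ := (IsPGroup.of_card (n := j) (by rw [Nat.card_zpowers, hj]) :
    IsPGroup p (Subgroup.zpowers x)).exists_le_sylow
  obtain ⟨g, rfl⟩ := MulAction.exists_smul_eq G P Q
  obtain ⟨y, hy, hyx⟩ := hQ (Subgroup.mem_zpowers x)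
  exact ⟨⟨y, hy⟩, isConj_iff.mpr ⟨g, hyx⟩⟩

/-- The map from a Sylow subgroup onto the classes of `p`-elements. -/
noncomputable def sylowClass [Finite G] {p : ℕ} [hp : Fact p.Prime] (P : Sylow p G)
    (y : (P : Subgroup G)) : {c : ConjClasses G // ∀ x ∈ c.carrier, Pi {p} x} :=
  ⟨ConjClasses.mk (y : G), (mk_mem_iff _).mpr ((pi_singleton hp.out _).mpr (by
    obtain ⟨j, hj⟩ := IsPGroup.iff_orderOf.mp P.2 y
    exact ⟨j, by rw [Subgroup.orderOf_coe, hj]⟩))⟩

theorem sylowClass_surjective [Finite G] {p : ℕ} [Fact p.Prime] (P : Sylow p G) :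
    Function.Surjective (sylowClass P) := by
  rintro ⟨c, hc⟩
  obtain ⟨x, rfl⟩ := ConjClasses.mk_surjective c
  obtain ⟨y, hy⟩ := exists_conj_mem_sylow P ((mk_mem_iff x).mp hc)
  exact ⟨y, Subtype.ext (ConjClasses.mk_eq_mk_iff_isConj.mpr hy)⟩

theorem k_singleton_le [Finite G] {p : ℕ} (hp : p.Prime) :
    k G {p} ≤ p ^ (Nat.card G).factorization p := by
  have := Fact.mk hp
  let P : Sylow p G := default
  rw [← P.card_eq_multiplicity]
  exact Nat.card_le_card_of_surjective _ (sylowClass_surjective P)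

theorem fibre_two {X Y : Type*} [Finite X] {f : X → Y} {x z : X} (hne : z ≠ x) (h : f z = f x) :
    2 ≤ Nat.card {w : X // f w = f x} := by
  have : Nontrivial {w : X // f w = f x} := ⟨⟨z, h⟩, ⟨x, rfl⟩, fun e => hne (congrArg Subtype.val e)⟩
  exact Finite.one_lt_card

/-- The main dichotomy for one prime. -/
theorem normal_complement_of_many [Finite G] {p : ℕ} [hp : Fact p.Prime] (P : Sylow p G)
    (h : (p + 1) * Nat.card (P : Subgroup G) < 2 * p * k G {p}) :
    Cfsg.HasNormalPComplement p G ∧ IsMulCommutative (P : Subgroup G) := by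
  have hp2 := hp.out.two_le
  have hab : IsMulCommutative (P : Subgroup G) := by
    by_contra hna
    let g : ConjClasses (P : Subgroup G) → {c : ConjClasses G // ∀ x ∈ c.carrier, Pi {p} x} :=
      Quotient.lift (sylowClass P) fun a b hab => Subtype.ext
        (ConjClasses.mk_eq_mk_iff_isConj.mpr
          (MonoidHom.map_isConj (P : Subgroup G).subtype hab))
    have hg : Function.Surjective g := fun c => by
      obtain ⟨y, rfl⟩ := sylowClass_surjective P c
      exact ⟨ConjClasses.mk y, rfl⟩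
    have hk : k G {p} ≤ Nat.card (ConjClasses (P : Subgroup G)) :=
      Nat.card_le_card_of_surjective g hg
    have hfib : ∀ x ∉ ((Subgroup.center (P : Subgroup G)) : Set (P : Subgroup G)),
        p ≤ Nat.card {z : (P : Subgroup G) // ConjClasses.mk z = ConjClasses.mk x} := by
      intro x hx
      have hidx : (Subgroup.centralizer ({x} : Set (P : Subgroup G))).index =
          Nat.card {z : (P : Subgroup G) // ConjClasses.mk z = ConjClasses.mk x} := by
        have e1 : Nat.card {z : (P : Subgroup G) // ConjClasses.mk z = ConjClasses.mk x} =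
            (MulAction.stabilizer (ConjAct (P : Subgroup G)) x).index := by
          rw [MulAction.index_stabilizer, ConjAct.orbit_eq_carrier_conjClasses,
            ← Nat.card_coe_set_eq]
          exact Nat.card_congr (Equiv.subtypeEquivRight fun z =>
            ConjClasses.mem_carrier_iff_mk_eq.symm)
        rw [e1, ConjAct.stabilizer_eq_centralizer]
        rfl
      rw [← hidx]
      obtain ⟨j, hj⟩ := P.2.index (Subgroup.centralizer ({x} : Set (P : Subgroup G)))
      rcases j with _ | j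
      · rw [pow_zero, Subgroup.index_eq_one] at hj
        refine absurd (Subgroup.mem_center_iff.mpr fun y => ?_) hx
        exact Subgroup.mem_centralizer_singleton_iff.mp (hj ▸ Subgroup.mem_top y)
      · rw [hj]
        exact Nat.le_self_pow (Nat.succ_ne_zero _) p
    have h1 := mul_card_le_of_fibers ConjClasses.mk ConjClasses.mk_surjective _ p (by omega) hfib
    have hZ : p ^ 2 * Nat.card (Subgroup.center (P : Subgroup G)) ≤ Nat.card (P : Subgroup G) := by
      rw [← (Subgroup.center (P : Subgroup G)).index_mul_card]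
      refine Nat.mul_le_mul_right _ ?_
      obtain ⟨j, hj⟩ := P.2.index (Subgroup.center (P : Subgroup G))
      rw [hj]
      refine Nat.pow_le_pow_right (by omega) ?_
      by_contra hj2
      refine hna ?_
      have hcyc : IsCyclic ((P : Subgroup G) ⧸ Subgroup.center (P : Subgroup G)) := by
        rcases (show j = 0 ∨ j = 1 by omega) with rfl | rfl
        · have : Subsingleton ((P : Subgroup G) ⧸ Subgroup.center (P : Subgroup G)) := by
            refine (Nat.card_eq_one_iff_unique.mp ?_).1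
            rw [← Subgroup.index_eq_card, hj, pow_zero]
          infer_instance
        · exact isCyclic_of_prime_card (p := p) (by rw [← Subgroup.index_eq_card, hj, pow_one])
      exact ⟨⟨commutative_of_cyclic_center_quotient
        (QuotientGroup.mk' (Subgroup.center (P : Subgroup G))) (QuotientGroup.ker_mk' _).le⟩⟩
    set N := Nat.card (P : Subgroup G)
    set Z := Nat.card (Subgroup.center (P : Subgroup G))
    have h2 : Nat.card ((Subgroup.center (P : Subgroup G) : Set (P : Subgroup G))) = Z := rfl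
    rw [h2] at h1
    have h3 : p * k G {p} ≤ N + (p - 1) * Z := le_trans (Nat.mul_le_mul_left p hk) h1
    obtain ⟨s, rfl⟩ := Nat.exists_eq_add_of_le' hp2
    rw [show s + 2 - 1 = s + 1 by omega] at h3
    have e1 := Nat.mul_le_mul_left (2 * (s + 2) ^ 2) h3
    have e2 := Nat.mul_le_mul_left (2 * (s + 1)) hZ
    have e3 := Nat.mul_lt_mul_of_pos_left h (show 0 < (s + 2) ^ 2 by positivity)
    have e4 : 0 ≤ N * s ^ 3 := Nat.zero_le _
    have e5 : 0 ≤ N * s ^ 2 := Nat.zero_le _
    have e6 : 0 ≤ N * s := Nat.zero_le _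
    nlinarith
  refine ⟨?_, hab⟩
  refine Transfer.hasNormalPComplement_of_normalizer_le_centralizer P ?_
  by_contra hW
  let N := Subgroup.normalizer ((P : Subgroup G) : Set G)
  let F : Subgroup (P : Subgroup G) :=
    ((P : Subgroup G) ⊓ Subgroup.centralizer (N : Set G)).subgroupOf (P : Subgroup G)
  have hfib : ∀ x ∉ (F : Set (P : Subgroup G)),
      2 ≤ Nat.card {z : (P : Subgroup G) // sylowClass P z = sylowClass P x} := by
    intro x hx
    obtain ⟨n, hn, hne⟩ : ∃ n ∈ N, n * (x : G) * n⁻¹ ≠ x := by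
      by_contra hall
      push Not at hall
      refine hx (Subgroup.mem_subgroupOf.mpr (Subgroup.mem_inf.mpr ⟨x.2,
        Subgroup.mem_centralizer_iff.mpr fun n hn => mul_inv_eq_iff_eq_mul.mp (hall n hn)⟩))
    refine fibre_two (z := ⟨n * (x : G) * n⁻¹, (Subgroup.mem_normalizer_iff.mp hn _).mp x.2⟩)
      (fun e => hne (congrArg Subtype.val e)) (Subtype.ext ?_)
    exact ConjClasses.mk_eq_mk_iff_isConj.mpr
      (isConj_iff.mpr ⟨n, rfl⟩ : IsConj (x : G) (n * (x : G) * n⁻¹)).symm
  have h1 := mul_card_le_of_fibers _ (sylowClass_surjective P) _ 2 (by omega) hfib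
  have hF : p * Nat.card F ≤ Nat.card (P : Subgroup G) := by
    rw [← F.index_mul_card]
    refine Nat.mul_le_mul_right _ ?_
    obtain ⟨j, hj⟩ := P.2.index F
    rcases j with _ | j
    · rw [pow_zero, Subgroup.index_eq_one] at hj
      refine absurd (fun n hn => ?_) hW
      refine Subgroup.mem_centralizer_iff.mpr fun x hx => ?_
      have : (⟨x, hx⟩ : (P : Subgroup G)) ∈ F := hj ▸ Subgroup.mem_top _
      exact (Subgroup.mem_centralizer_iff.mp (Subgroup.mem_inf.mp
        (Subgroup.mem_subgroupOf.mp this)).2 n hn).symm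
    · rw [hj]
      exact Nat.le_self_pow (Nat.succ_ne_zero _) p
  have h2 : Nat.card ((F : Set (P : Subgroup G))) = Nat.card F := rfl
  rw [h2] at h1
  change 2 * k G {p} ≤ _ at h1
  rw [show (2 : ℕ) - 1 = 1 from rfl, one_mul] at h1
  nlinarith [Nat.mul_le_mul_left p h1]

/-- With a normal complement and abelian Sylow subgroup every element is its own class. -/
theorem le_k_of_normal_complement [Finite G] {p : ℕ} [hp : Fact p.Prime] (P : Sylow p G)
    (hN : Cfsg.HasNormalPComplement p G) (hab : IsMulCommutative (P : Subgroup G)) :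
    Nat.card (P : Subgroup G) ≤ k G {p} := by
  obtain ⟨P', N, hNn, hc⟩ := hN
  have hNp : (Nat.card N).Coprime p := by
    have h1 := hc.card_mul
    rw [P'.card_eq_multiplicity, mul_comm] at h1
    rw [Nat.coprime_comm, hp.out.coprime_iff_not_dvd]
    intro hd
    obtain ⟨c, hc'⟩ := hd
    have h2 : p ^ ((Nat.card G).factorization p + 1) ∣ Nat.card G :=
      ⟨c, by rw [pow_succ]; rw [hc'] at h1; linarith⟩
    exact absurd ((hp.out.pow_dvd_iff_le_factorization Nat.card_pos.ne').mp h2) (by omega)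
  have hPN : ∀ x : G, x ∈ (P : Subgroup G) → x ∈ N → x = 1 := fun x hx hxN => by
    obtain ⟨j, hj⟩ := IsPGroup.iff_orderOf.mp P.2 ⟨x, hx⟩
    rw [← Subgroup.orderOf_coe] at hj
    have h1 : orderOf x ∣ Nat.card N := by
      rw [← Subgroup.orderOf_mk x hxN]
      exact orderOf_dvd_natCard _
    rw [hj] at h1
    exact orderOf_eq_one_iff.mp (hj.trans (Nat.eq_one_of_dvd_coprimes
      (Nat.Coprime.pow_left j hNp.symm) dvd_rfl h1))
  refine Nat.card_le_card_of_injective (sylowClass P) fun a b hab' => ?_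
  obtain ⟨g, hg⟩ := isConj_iff.mp (ConjClasses.mk_eq_mk_iff_isConj.mp (congrArg Subtype.val hab'))
  -- the quotient by `N` is abelian
  have hsurj : Function.Surjective ((QuotientGroup.mk' N).comp (P' : Subgroup G).subtype) := by
    intro q
    obtain ⟨x, rfl⟩ := QuotientGroup.mk'_surjective N q
    obtain ⟨⟨⟨n, hn⟩, ⟨y, hy⟩⟩, rfl⟩ := hc.2 x
    refine ⟨⟨y, hy⟩, ?_⟩
    show QuotientGroup.mk' N y = QuotientGroup.mk' N (n * y)
    rw [map_mul, show QuotientGroup.mk' N n = 1 from (QuotientGroup.eq_one_iff n).mpr hn, one_mul]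
  have hab2 : ∀ u v : G ⧸ N, u * v = v * u := by
    intro u v
    obtain ⟨u, rfl⟩ := hsurj u
    obtain ⟨v, rfl⟩ := hsurj v
    have hP' : IsMulCommutative (P' : Subgroup G) := by
      refine ⟨⟨fun x y => (Sylow.equiv P' P).injective ?_⟩⟩
      rw [map_mul, map_mul]
      exact hab.1.comm _ _
    rw [← map_mul, hP'.1.comm, map_mul]
  have h1 : QuotientGroup.mk' N (a : G) = QuotientGroup.mk' N (b : G) := by
    rw [← hg, map_mul, map_mul, map_inv, hab2 (QuotientGroup.mk' N g), mul_inv_cancel_right]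
  have h2 : (a : G)⁻¹ * b ∈ N := QuotientGroup.eq.mp h1
  exact Subtype.ext (inv_mul_eq_one.mp (hPN _ (mul_mem (inv_mem a.2) b.2) h2))

theorem part_mono [Finite G] (H : Subgroup G) (S : Finset ℕ) (hS : ∀ r ∈ S, r.Prime) :
    part H S ≤ part G S :=
  Finset.prod_le_prod' fun r hr => by
    refine Nat.pow_le_pow_right (hS r hr).pos ?_
    exact (Nat.factorization_le_iff_dvd Nat.card_pos.ne' Nat.card_pos.ne').mpr
      (Subgroup.card_subgroup_dvd_card H) r

/-- The bound obtained by splitting off the part at one prime. -/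
theorem k_insert_le [Finite G] {S : Finset ℕ} (hS : ∀ r ∈ S, r.Prime) {r : ℕ} (hr : r.Prime)
    (hrS : r ∉ S) (B : ∀ H : Subgroup G, k H S ≤ part H S) :
    k G (insert r S) ≤ k G {r} * part G S := by
  have := Fintype.ofFinite {c : ConjClasses G // ∀ x ∈ c.carrier, Pi {r} x}
  let C : {c : ConjClasses G // ∀ x ∈ c.carrier, Pi {r} x} → Subgroup G :=
    fun c => Subgroup.centralizer ({(c.1.exists_rep.choose : G)} : Set G)
  let T := Σ c : {c : ConjClasses G // ∀ x ∈ c.carrier, Pi {r} x},
    {d : ConjClasses (C c) // ∀ x ∈ d.carrier, Pi S x}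
  let f : T → ConjClasses G := fun t =>
    ConjClasses.mk (t.1.1.exists_rep.choose * ((t.2.1.exists_rep.choose : C t.1) : G))
  have key : ∀ z : G, Pi (insert r S) z → ConjClasses.mk z ∈ Set.range f := by
    intro z hz
    obtain ⟨a, m, hm, hzm⟩ :=
      Nat.exists_eq_pow_mul_and_not_dvd (orderOf_pos z).ne' r hr.ne_one
    have hcop : Nat.Coprime (r ^ a) m := Nat.Coprime.pow_left a (hr.coprime_iff_not_dvd.mpr hm)
    have hbez := Nat.gcd_eq_gcd_ab (r ^ a) m
    rw [hcop.gcd_eq_one] at hbez
    set x := z ^ ((m : ℤ) * Nat.gcdB (r ^ a) m) with hxdef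
    set y := z ^ (((r ^ a : ℕ) : ℤ) * Nat.gcdA (r ^ a) m) with hydef
    have hxy : x * y = z := by
      rw [hxdef, hydef, ← zpow_add, add_comm, ← hbez, Nat.cast_one, zpow_one]
    have hz0 : z ^ (orderOf z : ℤ) = 1 := by rw [zpow_natCast, pow_orderOf_eq_one]
    have hx : orderOf x ∣ r ^ a := by
      refine orderOf_dvd_of_pow_eq_one ?_
      rw [← zpow_natCast x, hxdef, ← zpow_mul, show
        (m : ℤ) * Nat.gcdB (r ^ a) m * ((r ^ a : ℕ) : ℤ) = (orderOf z : ℤ) * Nat.gcdB (r ^ a) m by
          rw [hzm]; push_cast; ring, zpow_mul, hz0, one_zpow]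
    have hy : orderOf y ∣ m := by
      refine orderOf_dvd_of_pow_eq_one ?_
      rw [← zpow_natCast y, hydef, ← zpow_mul, show
        ((r ^ a : ℕ) : ℤ) * Nat.gcdA (r ^ a) m * (m : ℤ) = (orderOf z : ℤ) * Nat.gcdA (r ^ a) m by
          rw [hzm]; push_cast; ring, zpow_mul, hz0, one_zpow]
    have hxPi : Pi {r} x := fun s hs hd => Finset.mem_singleton.mpr
      ((Nat.prime_dvd_prime_iff_eq hs hr).mp (hs.dvd_of_dvd_pow (hd.trans hx)))
    have hyPi : Pi S y := fun s hs hd => (Finset.mem_insert.mp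
      (hz s hs (hd.trans (hy.trans (hzm ▸ dvd_mul_left m _))))).resolve_left fun e =>
        hm (e ▸ hd.trans hy)
    have hcomm : Commute x y := (Commute.refl z).zpow_zpow _ _
    let c : {c : ConjClasses G // ∀ x ∈ c.carrier, Pi {r} x} :=
      ⟨ConjClasses.mk x, (mk_mem_iff x).mpr hxPi⟩
    obtain ⟨g, hg⟩ := isConj_iff.mp
      (ConjClasses.mk_eq_mk_iff_isConj.mp c.1.exists_rep.choose_spec).symm
    have hgy : g * y * g⁻¹ ∈ C c := by
      rw [Subgroup.mem_centralizer_singleton_iff, ← hg, ← MulAut.conj_apply, ← MulAut.conj_apply]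
      exact ((hcomm.map (MulAut.conj g).toMonoidHom).symm).eq
    have hgyPi : Pi S (⟨g * y * g⁻¹, hgy⟩ : C c) := fun s hs hd => by
      rw [← Subgroup.orderOf_coe] at hd
      change s ∣ orderOf (MulAut.conj g y) at hd
      rw [MulEquiv.orderOf_eq] at hd
      exact hyPi s hs hd
    let d : {d : ConjClasses (C c) // ∀ x ∈ d.carrier, Pi S x} :=
      ⟨ConjClasses.mk ⟨g * y * g⁻¹, hgy⟩, (mk_mem_iff _).mpr hgyPi⟩
    obtain ⟨h, hh⟩ := isConj_iff.mp
      (ConjClasses.mk_eq_mk_iff_isConj.mp d.1.exists_rep.choose_spec).symm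
    refine ⟨⟨c, d⟩, ConjClasses.mk_eq_mk_iff_isConj.mpr
      (isConj_iff.mpr ⟨(h : G) * g, ?_⟩ : IsConj z _).symm⟩
    show (h : G) * g * z * ((h : G) * g)⁻¹ =
      c.1.exists_rep.choose * ((d.1.exists_rep.choose : C c) : G)
    rw [← hxy, ← hh, Subgroup.coe_mul, Subgroup.coe_mul, Subgroup.coe_inv]
    have hc' := Subgroup.mem_centralizer_singleton_iff.mp h.2
    calc (h : G) * g * (x * y) * ((h : G) * g)⁻¹
        = (h : G) * (g * x * g⁻¹) * (g * y * g⁻¹) * (h : G)⁻¹ := by group
      _ = _ := by rw [hg, hc']; group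
  have h1 : k G (insert r S) ≤ Nat.card T := by
    refine le_trans (Nat.card_le_card_of_injective
      (fun c : {c : ConjClasses G // ∀ x ∈ c.carrier, Pi (insert r S) x} =>
        (⟨c.1, ?_⟩ : Set.range f)) fun a b hab => Subtype.ext (congrArg Subtype.val hab :))
      (Nat.card_le_card_of_surjective _ Set.rangeFactorization_surjective)
    obtain ⟨z, hz⟩ := ConjClasses.mk_surjective c.1
    exact hz ▸ key z ((mk_mem_iff z).mp (hz ▸ c.2))
  refine le_trans h1 ?_
  show Nat.card T ≤ _
  rw [Nat.card_sigma]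
  refine le_trans (Finset.sum_le_card_nsmul _ _ (part G S) fun c _ =>
    (B (C c)).trans (part_mono (C c) S hS)) (le_of_eq ?_)
  rw [smul_eq_mul, k, Nat.card_eq_fintype_card, Finset.card_univ]

/-- There are at most `|G|_π` classes of `π`-elements. -/
theorem k_le_part (S : Finset ℕ) (hS : ∀ r ∈ S, r.Prime) :
    ∀ (G : Type u) [Group G] [Finite G], k G S ≤ part G S := by
  induction S using Finset.induction_on with
  | empty =>
    intro G _ _
    rw [part, Finset.prod_empty, k, Finite.card_le_one_iff_subsingleton]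
    refine ⟨fun a b => Subtype.ext ?_⟩
    have h : ∀ c : {c : ConjClasses G // ∀ x ∈ c.carrier, Pi ∅ x}, c.1 = ConjClasses.mk 1 := by
      intro c
      obtain ⟨x, hx⟩ := ConjClasses.mk_surjective c.1
      have hPi : Pi ∅ x := (mk_mem_iff x).mp (hx ▸ c.2)
      have : orderOf x = 1 := by
        by_contra hne
        obtain ⟨r, hr, hd⟩ := Nat.exists_prime_and_dvd hne
        exact Finset.notMem_empty r (hPi r hr hd)
      rw [← hx, orderOf_eq_one_iff.mp this]
    rw [h a, h b]
  | insert r S hr ih =>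
    intro G _ _
    have hS' : ∀ s ∈ S, s.Prime := fun s hs => hS s (Finset.mem_insert_of_mem hs)
    refine le_trans (k_insert_le hS' (hS r (Finset.mem_insert_self r S)) hr fun H => ih hS' H) ?_
    rw [part, part, Finset.prod_insert hr]
    exact Nat.mul_le_mul_right _ (k_singleton_le (hS r (Finset.mem_insert_self r S)))

end Cfsg.Agent.Lib.Cores.ClassCount
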