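import Cfsg.Agent.Lib.Cores.ClassCountTwo
import Cfsg.Prelude.Def_OddOrderLocal

/-!
Many classes of `π`-elements when `π` contains 2.
-/

set_option autoImplicit false
set_option linter.unusedSectionVars false

namespace Cfsg.Agent.Lib.Cores.ClassCount

open scoped Classical
open Subgroup

universe u

/-- A normal Hall subgroup is characteristic. -/
theorem characteristic_of_coprime {G : Type u} [Group G] [Finite G] (N : Subgroup G) [N.Normal]
    (h : (Nat.card N).Coprime N.index) : N.Characteristic := by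
  refine characteristic_iff_map_le.mpr fun φ => ?_
  intro x hx
  obtain ⟨y, hy, rfl⟩ := mem_map.mp hx
  rw [← QuotientGroup.eq_one_iff, ← orderOf_eq_one_iff]
  refine Nat.eq_one_of_dvd_coprimes h ?_ ?_
  · refine (orderOf_map_dvd (QuotientGroup.mk' N) _).trans ?_
    rw [show orderOf (φ.toMonoidHom y) = orderOf (⟨y, hy⟩ : N) by
      rw [Subgroup.orderOf_mk]; exact φ.orderOf_eq y]
    exact _root_.orderOf_dvd_natCard _
  · rw [index_eq_card]
    exact _root_.orderOf_dvd_natCard _

/-- In a group of odd order, more than half as many `p`-classes as the order of a Sylow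
subgroup give an abelian Sylow subgroup and a normal complement. -/
theorem odd_normal_complement_of_many {G : Type u} [Group G] [Finite G] {p : ℕ}
    [hp : Fact p.Prime] (hodd : Odd (Nat.card G)) (hp3 : 3 ≤ p) (P : Sylow p G)
    (h : Nat.card (P : Subgroup G) < 2 * k G {p}) :
    Cfsg.HasNormalPComplement p G ∧ IsMulCommutative (P : Subgroup G) := by
  have hab : IsMulCommutative (P : Subgroup G) := by
    by_contra hna
    have hk := k_le_classes P
    have hfib : ∀ x ∉ ((Subgroup.center (P : Subgroup G)) : Set (P : Subgroup G)),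
        p ≤ Nat.card {z : (P : Subgroup G) // ConjClasses.mk z = ConjClasses.mk x} := by
      intro x hx
      have hidx : (Subgroup.centralizer ({x} : Set (P : Subgroup G))).index =
          Nat.card {z : (P : Subgroup G) // ConjClasses.mk z = ConjClasses.mk x} := by
        have e1 : Nat.card {z : (P : Subgroup G) // ConjClasses.mk z = ConjClasses.mk x} =
            (MulAction.stabilizer (ConjAct (P : Subgroup G)) x).index := by
          rw [MulAction.index_stabilizer, ConjAct.orbit_eq_carrier_conjClasses,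
            ← Nat.card_coe_set_eq]
          exact Nat.card_congr (Equiv.subtypeEquivRight fun z =>
            ConjClasses.mem_carrier_iff_mk_eq.symm)
        rw [e1, ConjAct.stabilizer_eq_centralizer]
        rfl
      rw [← hidx]
      obtain ⟨j, hj⟩ := P.2.index (Subgroup.centralizer ({x} : Set (P : Subgroup G)))
      rcases j with _ | j
      · rw [pow_zero, Subgroup.index_eq_one] at hj
        refine absurd (Subgroup.mem_center_iff.mpr fun y => ?_) hx
        exact Subgroup.mem_centralizer_singleton_iff.mp (hj ▸ Subgroup.mem_top y)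
      · rw [hj]
        exact Nat.le_self_pow (Nat.succ_ne_zero _) p
    have h1 := mul_card_le_of_fibers ConjClasses.mk ConjClasses.mk_surjective _ p (by omega) hfib
    have hZ : p ^ 2 * Nat.card (Subgroup.center (P : Subgroup G)) ≤ Nat.card (P : Subgroup G) := by
      rw [← (Subgroup.center (P : Subgroup G)).index_mul_card]
      refine Nat.mul_le_mul_right _ ?_
      obtain ⟨j, hj⟩ := P.2.index (Subgroup.center (P : Subgroup G))
      rw [hj]
      refine Nat.pow_le_pow_right (by omega) ?_
      by_contra hj2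
      refine hna ?_
      have hcyc : IsCyclic ((P : Subgroup G) ⧸ Subgroup.center (P : Subgroup G)) := by
        rcases (show j = 0 ∨ j = 1 by omega) with rfl | rfl
        · have : Subsingleton ((P : Subgroup G) ⧸ Subgroup.center (P : Subgroup G)) := by
            refine (Nat.card_eq_one_iff_unique.mp ?_).1
            rw [← Subgroup.index_eq_card, hj, pow_zero]
          infer_instance
        · exact isCyclic_of_prime_card (p := p) (by rw [← Subgroup.index_eq_card, hj, pow_one])
      exact ⟨⟨commutative_of_cyclic_center_quotient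
        (QuotientGroup.mk' (Subgroup.center (P : Subgroup G))) (QuotientGroup.ker_mk' _).le⟩⟩
    change p * _ ≤ _ + (p - 1) * Nat.card (Subgroup.center (P : Subgroup G)) at h1
    have h2 := (Nat.mul_le_mul_left p hk).trans h1
    have h3 : (p - 1) * Nat.card (Subgroup.center (P : Subgroup G)) ≤
        p * Nat.card (Subgroup.center (P : Subgroup G)) := Nat.mul_le_mul_right _ (Nat.sub_le _ _)
    have h4 : 2 * (p * Nat.card (Subgroup.center (P : Subgroup G))) ≤ Nat.card (P : Subgroup G) :=
      le_trans (by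
        rw [← mul_assoc, pow_two]
        exact Nat.mul_le_mul_right _ (Nat.mul_le_mul_right p (by omega))) hZ
    have h5 := Nat.mul_le_mul_left (Nat.card (P : Subgroup G)) hp3
    have h6 := Nat.mul_lt_mul_of_pos_left h (show 0 < p by omega)
    nlinarith
  refine ⟨?_, hab⟩
  refine Transfer.hasNormalPComplement_of_normalizer_le_centralizer P ?_
  by_contra hW
  let N := Subgroup.normalizer ((P : Subgroup G) : Set G)
  let F : Subgroup (P : Subgroup G) :=
    ((P : Subgroup G) ⊓ Subgroup.centralizer (N : Set G)).subgroupOf (P : Subgroup G)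
  have memF : ∀ x : (P : Subgroup G), x ∈ F ↔ ∀ n ∈ N, n * (x : G) * n⁻¹ = x := fun x => by
    rw [Subgroup.mem_subgroupOf, Subgroup.mem_inf, mem_centralizer_iff]
    exact ⟨fun hx n hn => mul_inv_eq_iff_eq_mul.mpr (hx.2 n hn),
      fun hx => ⟨x.2, fun n hn => mul_inv_eq_iff_eq_mul.mp (hx n hn)⟩⟩
  have hoddn : ∀ n : G, Odd (orderOf n) := fun n =>
    hodd.of_dvd_nat (_root_.orderOf_dvd_natCard n)
  have hfib : ∀ x ∉ (F : Set (P : Subgroup G)),
      3 ≤ Nat.card {z : (P : Subgroup G) // sylowClass P z = sylowClass P x} := by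
    intro x hx
    obtain ⟨n, hn, hne⟩ : ∃ n ∈ N, n * (x : G) * n⁻¹ ≠ x := by
      by_contra! hall
      exact hx ((memF x).mpr hall)
    have hne2 : n ^ 2 * (x : G) * (n ^ 2)⁻¹ ≠ x := fun e => hne <| by
      obtain ⟨m, hm⟩ := hoddn n
      have hc : Commute (n ^ 2) (x : G) := mul_inv_eq_iff_eq_mul.mp e
      have he : n = (n ^ 2) ^ (m + 1) := by
        rw [← pow_mul, show 2 * (m + 1) = (2 * m + 1) + 1 by ring, ← hm, pow_succ,
          pow_orderOf_eq_one, one_mul]
      rw [he]
      exact mul_inv_eq_iff_eq_mul.mpr (hc.pow_left _).eq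
    have hne3 : n ^ 2 * (x : G) * (n ^ 2)⁻¹ ≠ n * (x : G) * n⁻¹ := fun e => hne <| by
      apply mul_left_cancel (a := n)
      apply mul_right_cancel (b := n⁻¹)
      refine Eq.trans ?_ e
      rw [pow_two]; group
    let e : Fin 3 → {z : (P : Subgroup G) // sylowClass P z = sylowClass P x} := fun l =>
      ⟨⟨n ^ (l : ℕ) * (x : G) * (n ^ (l : ℕ))⁻¹,
        (Subgroup.mem_normalizer_iff.mp (N.pow_mem hn l) _).mp x.2⟩,
        Subtype.ext (ConjClasses.mk_eq_mk_iff_isConj.mpr
          (isConj_iff.mpr ⟨n ^ (l : ℕ), rfl⟩ : IsConj (x : G) _).symm)⟩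
    have he : Function.Injective e := fun l m hlm => by
      have h' : n ^ (l : ℕ) * (x : G) * (n ^ (l : ℕ))⁻¹ = n ^ (m : ℕ) * (x : G) * (n ^ (m : ℕ))⁻¹ :=
        congrArg (fun z => ((z.1 : (P : Subgroup G)) : G)) hlm
      fin_cases l <;> fin_cases m <;>
        simp only [pow_zero, pow_one, one_mul, inv_one, mul_one] at h' <;>
        first
          | rfl
          | exact absurd h' hne
          | exact absurd h'.symm hne
          | exact absurd h' hne2
          | exact absurd h'.symm hne2
          | exact absurd h' hne3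
          | exact absurd h'.symm hne3
    have := Nat.card_le_card_of_injective e he
    rwa [Nat.card_fin] at this
  have h1 := mul_card_le_of_fibers _ (sylowClass_surjective P) _ 3 (by omega) hfib
  change 3 * k G {p} ≤ _ + (3 - 1) * Nat.card F at h1
  obtain ⟨j, hj⟩ := P.2.index F
  have hFP := F.index_mul_card
  rcases j with _ | _ | j
  · rw [pow_zero, Subgroup.index_eq_one] at hj
    refine hW fun n hn => Subgroup.mem_centralizer_iff.mpr fun x hx => ?_
    exact (mul_inv_eq_iff_eq_mul.mp
      ((memF ⟨x, hx⟩).mp (hj ▸ Subgroup.mem_top _) n hn)).symm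
  · rw [hj, zero_add, pow_one] at hFP
    obtain h3 | h5 : p = 3 ∨ 5 ≤ p := by
      rcases hp.out.eq_two_or_odd' with h2 | ⟨t, ht⟩ <;> omega
    swap
    · nlinarith [Nat.mul_le_mul_right (Nat.card F) h5]
    -- a quotient of order 3 admits no automorphism of odd order
    replace hj : F.index = 3 := by rw [hj, zero_add, pow_one]; exact h3
    have hFn : F.Normal := ⟨fun a ha g => by
      have : g * a = a * g := hab.1.comm _ _
      rwa [this, mul_inv_cancel_right]⟩
    have hfix : ∀ n ∈ N, ∀ x : (P : Subgroup G), n * (x : G) * n⁻¹ = x := by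
      intro n hn x
      by_cases hx : x ∈ F
      · exact (memF x).mp hx n hn
      let c : ↥(P : Subgroup G) → ↥(P : Subgroup G) := fun y =>
        ⟨n * (y : G) * n⁻¹, (Subgroup.mem_normalizer_iff.mp hn _).mp y.2⟩
      have hcF : ∀ y, c y ∈ F → y ∈ F := fun y hy => by
        have := (memF _).mp hy n⁻¹ (N.inv_mem hn)
        have e : c y = y := Subtype.ext (by rw [← this]; show n⁻¹ * (n * (y : G) * n⁻¹) * n⁻¹⁻¹ = _; group)
        rwa [e] at hy
      have hq : ∀ q : (P : Subgroup G) ⧸ F, q = 1 ∨ q = QuotientGroup.mk x ∨ q = (QuotientGroup.mk x)⁻¹ := by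
        intro q
        have hord : orderOf (QuotientGroup.mk x : (P : Subgroup G) ⧸ F) = 3 := by
          have h' := _root_.orderOf_dvd_natCard (QuotientGroup.mk x : (P : Subgroup G) ⧸ F)
          rw [← Subgroup.index_eq_card, hj] at h'
          refine ((Nat.dvd_prime (by norm_num)).mp h').resolve_left fun e => hx ?_
          exact (QuotientGroup.eq_one_iff x).mp (orderOf_eq_one_iff.mp e)
        have hgen : Subgroup.zpowers (QuotientGroup.mk x : (P : Subgroup G) ⧸ F) = ⊤ :=
          Subgroup.eq_top_of_card_eq _ (by rw [Nat.card_zpowers, hord, ← Subgroup.index_eq_card, hj])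
        have hq' : q ∈ Subgroup.zpowers (QuotientGroup.mk x : (P : Subgroup G) ⧸ F) :=
          hgen ▸ Subgroup.mem_top q
        obtain ⟨z, rfl⟩ := Subgroup.mem_zpowers_iff.mp hq'
        rw [← zpow_mod_orderOf, hord]
        rcases (show z % ((3 : ℕ) : ℤ) = 0 ∨ z % ((3 : ℕ) : ℤ) = 1 ∨ z % ((3 : ℕ) : ℤ) = 2 by omega)
          with e | e | e
        · left; rw [e, zpow_zero]
        · right; left; rw [e, zpow_one]
        · right; right
          rw [e, eq_inv_iff_mul_eq_one, ← zpow_add_one, show (2 : ℤ) + 1 = ((3 : ℕ) : ℤ) by rfl,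
            zpow_natCast, ← hord, pow_orderOf_eq_one]
      have hx1 : x⁻¹ * c x ∈ F := by
        rcases hq (QuotientGroup.mk (c x)) with e | e | e
        · exact absurd (hcF x ((QuotientGroup.eq_one_iff _).mp e)) hx
        · exact QuotientGroup.eq.mp e.symm
        exfalso
        rw [← QuotientGroup.mk_inv] at e
        have e' : (x * c x) ∈ F := by
          have := QuotientGroup.eq.mp e.symm
          rwa [inv_inv] at this
        have hf := (memF _).mp e'
        have e2 : c (c x) = x := Subtype.ext <| by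
          have h2 := hf n hn
          have h2' : n * ((x : G) * (c x : G)) * n⁻¹ = (x : G) * (c x : G) := h2
          have hcomm : (x : G) * (c x : G) = (c x : G) * (x : G) := congrArg Subtype.val (hab.1.comm x (c x))
          apply mul_left_cancel (a := (c x : G))
          rw [← hcomm, ← h2']
          show (n * (x : G) * n⁻¹) * (n * (n * (x : G) * n⁻¹) * n⁻¹) = n * ((x : G) * (n * (x : G) * n⁻¹)) * n⁻¹
          group
        have e2' : n ^ 2 * (x : G) * (n ^ 2)⁻¹ = x := by
          refine Eq.trans ?_ (congrArg Subtype.val e2)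
          show _ = n * (n * (x : G) * n⁻¹) * n⁻¹
          rw [pow_two]; group
        obtain ⟨m, hm⟩ := hoddn n
        have hc : Commute (n ^ 2) (x : G) := mul_inv_eq_iff_eq_mul.mp e2'
        have he : n = (n ^ 2) ^ (m + 1) := by
          rw [← pow_mul, show 2 * (m + 1) = (2 * m + 1) + 1 by ring, ← hm, pow_succ,
            pow_orderOf_eq_one, one_mul]
        have hcx : c x = x := Subtype.ext <| by
          show n * (x : G) * n⁻¹ = x
          rw [he]
          exact mul_inv_eq_iff_eq_mul.mpr (hc.pow_left _).eq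
        rw [hcx, ← pow_two] at e'
        refine hx ?_
        have h4 : x ^ 3 ∈ F := by
          rw [← hj]
          exact F.pow_index_mem x
        have : x = x ^ 3 * (x ^ 2)⁻¹ := by group
        rw [this]; exact F.mul_mem h4 (F.inv_mem e')
      set f := x⁻¹ * c x with hf
      have hnx : n * (x : G) * n⁻¹ = (x : G) * (f : G) := by
        rw [hf]; show _ = (x : G) * ((x : G)⁻¹ * (n * (x : G) * n⁻¹)); rw [mul_inv_cancel_left]
      have hpow : ∀ m : ℕ, n ^ m * (x : G) * (n ^ m)⁻¹ = (x : G) * (f : G) ^ m := by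
        intro m
        induction m with
        | zero => simp
        | succ m ih =>
          calc n ^ (m + 1) * (x : G) * (n ^ (m + 1))⁻¹
              = n * (n ^ m * (x : G) * (n ^ m)⁻¹) * n⁻¹ := by rw [pow_succ']; group
            _ = (n * (x : G) * n⁻¹) * (n * (f : G) * n⁻¹) ^ m := by rw [ih, conj_pow]; group
            _ = _ := by rw [hnx, (memF f).mp hx1 n hn, pow_succ', mul_assoc]
      let P' : Subgroup N := (P : Subgroup G).subgroupOf N
      have hPn : P'.Normal := by
        show ((P : Subgroup G).subgroupOf N).Normal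
        infer_instance
      have hm : (n ^ P'.index) ∈ (P : Subgroup G) :=
        mem_subgroupOf.mp (P'.pow_index_mem (⟨n, hn⟩ : N))
      have h1' := hpow P'.index
      rw [show n ^ P'.index * (x : G) * (n ^ P'.index)⁻¹ = x from mul_inv_eq_iff_eq_mul.mpr
        (congrArg Subtype.val (hab.1.comm ⟨_, hm⟩ x)), left_eq_mul] at h1'
      have hnd : ¬ p ∣ P'.index := (P.subtype Subgroup.le_normalizer).not_dvd_index
      obtain ⟨a, ha⟩ := IsPGroup.iff_orderOf.mp P.2 f
      rw [← Subgroup.orderOf_coe] at ha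
      have hf1 : (f : G) = 1 := orderOf_eq_one_iff.mp <| Nat.eq_one_of_dvd_coprimes
        (Nat.Coprime.pow_left a (hp.out.coprime_iff_not_dvd.mpr hnd)) (dvd_of_eq ha)
        (orderOf_dvd_of_pow_eq_one h1')
      rw [hnx, hf1, mul_one]
    exact hW fun n hn => Subgroup.mem_centralizer_iff.mpr fun x hx =>
      (mul_inv_eq_iff_eq_mul.mp (hfix n hn ⟨x, hx⟩)).symm
  · rw [hj] at hFP
    have : 9 ≤ p ^ (j + 1 + 1) := by
      calc 9 = 3 ^ 2 := rfl
        _ ≤ p ^ 2 := Nat.pow_le_pow_left hp3 2
        _ ≤ _ := Nat.pow_le_pow_right (by omega) (by omega)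
    nlinarith [Nat.mul_le_mul_right (Nat.card F) this]

/-- Normal complements with abelian quotients at every prime of `S` glue together. -/
theorem glue_complements {G : Type u} [Group G] [Finite G] (π : Finset ℕ) (hπ : ∀ r ∈ π, r.Prime)
    (key : ∀ r ∈ π, ∃ K : Subgroup G, K.Normal ∧ ¬ r ∣ Nat.card ↥K ∧
      K.index = r ^ (Nat.card G).factorization r ∧ ∀ a b : G ⧸ K, ∀ (_ : K.Normal), a * b = b * a) :
    ∃ N H : Subgroup G, N.Normal ∧ (∀ r : ℕ, r.Prime → r ∣ Nat.card ↥N → r ∉ π) ∧
      (∀ r : ℕ, r.Prime → r ∣ N.index → r ∈ π) ∧ N.IsComplement' H ∧ IsMulCommutative ↥H := by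
  choose K hKn hKr hKi hKab using key
  let N : Subgroup G := π.attach.inf fun r => K r.1 r.2
  have hN : N.Normal := Finset.inf_induction (p := fun H : Subgroup G => H.Normal)
    Subgroup.normal_top (fun A hA B hB => by
      have := hA; have := hB; exact Subgroup.normal_inf_normal A B)
    fun r _ => hKn r.1 r.2
  have hNle : ∀ r hr, N ≤ K r hr := fun r hr =>
    Finset.inf_le (f := fun r : {x // x ∈ π} => K r.1 r.2) (Finset.mem_attach π ⟨r, hr⟩)
  have hNcard : ∀ r : ℕ, r.Prime → r ∣ Nat.card ↥N → r ∉ π := fun r _ hd hr =>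
    hKr r hr (hd.trans (Subgroup.card_dvd_of_le (hNle r hr)))
  have hNidx : ∀ r : ℕ, r.Prime → r ∣ N.index → r ∈ π := by
    intro r hr
    refine Finset.inf_induction (p := fun H : Subgroup G => H.Normal ∧ (r ∣ H.index → r ∈ π))
      ⟨Subgroup.normal_top, fun h => absurd (Subgroup.index_top (G := G) ▸ h) hr.not_dvd_one⟩
      ?_ (fun s _ => ⟨hKn s.1 s.2, fun h => ?_⟩) |>.2
    · rintro A ⟨hA, hA'⟩ B ⟨hB, hB'⟩
      refine ⟨Subgroup.normal_inf_normal A B, fun h => ?_⟩
      rw [← Subgroup.relIndex_mul_index (inf_le_left : A ⊓ B ≤ A)] at h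
      rcases hr.dvd_mul.mp h with h | h
      · rw [Subgroup.inf_relIndex_left] at h
        exact hB' (h.trans (Subgroup.relIndex_dvd_index_of_normal B A))
      · exact hA' h
    · rw [hKi s.1 s.2] at h
      exact (Nat.prime_dvd_prime_iff_eq hr (hπ s.1 s.2)).mp (hr.dvd_of_dvd_pow h) ▸ s.2
  have hcop : (Nat.card ↥N).Coprime N.index := Nat.coprime_of_dvd fun r hr h1 h2 =>
    hNcard r hr h1 (hNidx r hr h2)
  obtain ⟨H, hH⟩ := Subgroup.exists_right_complement'_of_coprime hcop
  refine ⟨N, H, hN, hNcard, hNidx, hH, ⟨⟨fun a b => ?_⟩⟩⟩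
  have hc : (a : G)⁻¹ * (b : G)⁻¹ * a * b ∈ N := by
    refine (Finset.inf_induction (p := fun L : Subgroup G => (a : G)⁻¹ * (b : G)⁻¹ * a * b ∈ L)
      (Subgroup.mem_top _) (fun A hA B hB => Subgroup.mem_inf.mpr ⟨hA, hB⟩) fun s _ => ?_)
    have := hKn s.1 s.2
    rw [← QuotientGroup.eq_one_iff]
    show QuotientGroup.mk' (K s.1 s.2) _ = 1
    simp only [map_mul, map_inv]
    rw [mul_assoc ((QuotientGroup.mk' _ (a : G))⁻¹ * _),
      hKab s.1 s.2 (QuotientGroup.mk' _ (a : G)) (QuotientGroup.mk' _ (b : G)) this]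
    group
  have h1 : (a : G)⁻¹ * (b : G)⁻¹ * a * b ∈ N ⊓ H :=
    Subgroup.mem_inf.mpr ⟨hc, mul_mem (mul_mem (mul_mem (inv_mem a.2) (inv_mem b.2)) a.2) b.2⟩
  rw [hH.disjoint.eq_bot, Subgroup.mem_bot] at h1
  refine Subtype.ext ?_
  show (a : G) * b = b * a
  calc (a : G) * b = b * a * ((a : G)⁻¹ * (b : G)⁻¹ * a * b) := by group
    _ = _ := by rw [h1, mul_one]

/-- Data at one prime, from a normal complement and an abelian Sylow subgroup. -/
theorem complement_data {G : Type u} [Group G] [Finite G] {p : ℕ} [hp : Fact p.Prime]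
    (P : Sylow p G) (hN : Cfsg.HasNormalPComplement p G) (hab : IsMulCommutative (P : Subgroup G)) :
    ∃ K : Subgroup G, K.Normal ∧ ¬ p ∣ Nat.card ↥K ∧
      K.index = p ^ (Nat.card G).factorization p ∧ ∀ a b : G ⧸ K, ∀ (_ : K.Normal), a * b = b * a := by
  obtain ⟨P', K, hK, hc⟩ := hN
  have hidx : K.index = p ^ (Nat.card G).factorization p := by
    rw [hc.symm.index_eq_card, P'.card_eq_multiplicity]
  refine ⟨K, hK, fun hd => ?_, hidx, fun a b _ => ?_⟩
  · rw [← hc.index_eq_card] at hd
    exact P'.not_dvd_index hd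
  · have hsurj : Function.Surjective ((QuotientGroup.mk' K).comp (P' : Subgroup G).subtype) := by
      intro q
      obtain ⟨x, rfl⟩ := QuotientGroup.mk'_surjective K q
      obtain ⟨⟨⟨n, hn⟩, ⟨y, hy⟩⟩, rfl⟩ := hc.2 x
      refine ⟨⟨y, hy⟩, ?_⟩
      show QuotientGroup.mk' K y = QuotientGroup.mk' K (n * y)
      rw [map_mul, show QuotientGroup.mk' K n = 1 from (QuotientGroup.eq_one_iff n).mpr hn, one_mul]
    obtain ⟨a, rfl⟩ := hsurj a
    obtain ⟨b, rfl⟩ := hsurj b
    rw [← map_mul, ← map_mul]
    congr 1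
    refine (Sylow.equiv P' P).injective ?_
    rw [map_mul, map_mul]
    exact hab.1.comm _ _

theorem pi_two_conclusion {G : Type u} [Group G] [Finite G] (π : Finset ℕ) (hπ : ∀ r ∈ π, r.Prime)
    (h2 : 2 ∈ π) (hk : part G π < 2 * k G π) :
    (∃ N : Subgroup G, N.Normal ∧ (∀ r : ℕ, r.Prime → r ∣ Nat.card ↥N → r ∉ π) ∧
      ∀ r : ℕ, r.Prime → r ∣ N.index → r ∈ π) ∧
    ∃ H : Subgroup G, Cfsg.IsPiHall ((↑π : Set ℕ) \ {2}) H ∧ IsMulCommutative ↥H := by
  have main : ∀ r ∈ π, r ^ (Nat.card G).factorization r < 2 * k G {r} := by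
    intro r hr
    have hS : ∀ s ∈ π.erase r, s.Prime := fun s hs => hπ s (Finset.mem_of_mem_erase hs)
    have h1 := k_insert_le (G := G) hS (hπ r hr) (Finset.notMem_erase r π)
      fun H => k_le_part (π.erase r) hS ↥H
    rw [Finset.insert_erase hr] at h1
    refine Nat.lt_of_mul_lt_mul_right (a := part G (π.erase r)) ?_
    calc r ^ (Nat.card G).factorization r * part G (π.erase r) = part G π :=
          Finset.mul_prod_erase π (fun r => r ^ (Nat.card G).factorization r) hr
      _ < 2 * k G π := hk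
      _ ≤ _ := le_trans (Nat.mul_le_mul_left 2 h1) (le_of_eq (by ring))
  have : Fact (Nat.Prime 2) := ⟨Nat.prime_two⟩
  let P₂ : Sylow 2 G := default
  obtain ⟨P, M, hMn, hc⟩ := normal_two_complement_of_many P₂
    (by rw [P₂.card_eq_multiplicity]; exact main 2 h2)
  have hMidx : M.index = 2 ^ (Nat.card G).factorization 2 := by
    rw [hc.symm.index_eq_card, P.card_eq_multiplicity]
  have hM2 : ¬ 2 ∣ Nat.card M := by
    rw [← hc.index_eq_card]; exact P.not_dvd_index
  have hModd : Odd (Nat.card M) := Nat.odd_iff.mpr (by omega)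
  have hfac : ∀ r : ℕ, r.Prime → r ≠ 2 →
      (Nat.card M).factorization r = (Nat.card G).factorization r := by
    intro r hr hr2
    rw [← M.index_mul_card, Nat.factorization_mul (Subgroup.index_ne_zero_of_finite)
      Nat.card_pos.ne', hMidx, Nat.prime_two.factorization_pow]
    simp [hr2]
  have hπ0 : ∀ r ∈ π.erase 2, r.Prime := fun r hr => hπ r (Finset.mem_of_mem_erase hr)
  have key : ∀ r ∈ π.erase 2, ∃ K : Subgroup M, K.Normal ∧ ¬ r ∣ Nat.card ↥K ∧
      K.index = r ^ (Nat.card M).factorization r ∧ ∀ a b : M ⧸ K, ∀ (_ : K.Normal), a * b = b * a := by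
    intro r hr
    obtain ⟨hr2, hrπ⟩ := Finset.mem_erase.mp hr
    have := Fact.mk (hπ r hrπ)
    let R : Sylow r M := default
    have hle : k G {r} ≤ k M {r} := by
      let f : {c : ConjClasses M // ∀ x ∈ c.carrier, Pi {r} x} →
          {c : ConjClasses G // ∀ x ∈ c.carrier, Pi {r} x} := fun c =>
        ⟨ConjClasses.map M.subtype c.1, by
          obtain ⟨x, hx⟩ := ConjClasses.mk_surjective c.1
          rw [← hx]
          refine (mk_mem_iff (x : G)).mpr ?_
          have h' := (mk_mem_iff x).mp (hx ▸ c.2)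
          intro s hs hd
          rw [Subgroup.orderOf_coe] at hd
          exact h' s hs hd⟩
      refine Nat.card_le_card_of_surjective f fun c => ?_
      obtain ⟨x, hx⟩ := ConjClasses.mk_surjective c.1
      have hxPi : Pi {r} x := (mk_mem_iff x).mp (hx ▸ c.2)
      have hxM : x ∈ M := by
        rw [← QuotientGroup.eq_one_iff, ← orderOf_eq_one_iff]
        obtain ⟨a, ha⟩ := (pi_singleton (hπ r hrπ) x).mp hxPi
        refine Nat.eq_one_of_dvd_coprimes
          (Nat.Coprime.pow a ((Nat.card G).factorization 2)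
            ((Nat.coprime_primes (hπ r hrπ) Nat.prime_two).mpr hr2)) ?_ ?_
        · exact (orderOf_map_dvd (QuotientGroup.mk' M) x).trans (dvd_of_eq ha)
        · rw [← hMidx, index_eq_card]
          exact _root_.orderOf_dvd_natCard _
      refine ⟨⟨ConjClasses.mk ⟨x, hxM⟩, (mk_mem_iff _).mpr fun s hs hd => hxPi s hs (by
        rwa [Subgroup.orderOf_mk] at hd)⟩, Subtype.ext ?_⟩
      show ConjClasses.map M.subtype (ConjClasses.mk ⟨x, hxM⟩) = c.1
      rw [← hx]; rfl
    have hbig : Nat.card (R : Subgroup M) < 2 * k M {r} := by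
      rw [R.card_eq_multiplicity, hfac r (hπ r hrπ) hr2]
      exact lt_of_lt_of_le (main r hrπ) (Nat.mul_le_mul_left 2 hle)
    have hr3 : 3 ≤ r := by have := (hπ r hrπ).two_le; omega
    obtain ⟨hN, hab⟩ := odd_normal_complement_of_many hModd hr3 R hbig
    exact complement_data R hN hab
  obtain ⟨N, H, hN, hNcard, hNidx, hNH, hHab⟩ := glue_complements (π.erase 2) hπ0 key
  have hcop : (Nat.card ↥N).Coprime N.index := Nat.coprime_of_dvd fun r hr h1 h2 =>
    hNcard r hr h1 (hNidx r hr h2)
  have := characteristic_of_coprime N hcop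
  refine ⟨⟨N.map M.subtype, inferInstance, fun r hr hd hrπ => ?_, fun r hr hd => ?_⟩,
    ⟨H.map M.subtype, ⟨fun r hr hd => ?_, fun r hr hrπ hd => ?_⟩, ?_⟩⟩
  · rw [Subgroup.card_map_of_injective M.subtype_injective] at hd
    by_cases hr2 : r = 2
    · subst hr2
      exact hM2 (hd.trans (Subgroup.card_subgroup_dvd_card N))
    · exact hNcard r hr hd (Finset.mem_erase.mpr ⟨hr2, hrπ⟩)
  · rw [Subgroup.index_map_subtype] at hd
    rcases hr.dvd_mul.mp hd with h | h
    · exact Finset.mem_of_mem_erase (hNidx r hr h)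
    · rw [hMidx] at h
      exact (Nat.prime_dvd_prime_iff_eq hr Nat.prime_two).mp (hr.dvd_of_dvd_pow h) ▸ h2
  · rw [Subgroup.card_map_of_injective M.subtype_injective, ← hNH.symm.index_eq_card] at hd
    obtain ⟨h', h''⟩ := Finset.mem_erase.mp (hNidx r hr hd)
    exact ⟨Finset.mem_coe.mpr h'', h'⟩
  · rw [Subgroup.index_map_subtype] at hd
    rcases hr.dvd_mul.mp hd with h | h
    · rw [hNH.index_eq_card] at h
      exact hNcard r hr h (Finset.mem_erase.mpr ⟨hrπ.2, hrπ.1⟩)
    · rw [hMidx] at h
      exact hrπ.2 ((Nat.prime_dvd_prime_iff_eq hr Nat.prime_two).mp (hr.dvd_of_dvd_pow h))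
  · refine ⟨⟨?_⟩⟩
    rintro ⟨_, a, ha, rfl⟩ ⟨_, b, hb, rfl⟩
    refine Subtype.ext ?_
    show (a : G) * (b : G) = (b : G) * (a : G)
    exact congrArg (fun z : H => ((z : M) : G)) (hHab.1.comm ⟨a, ha⟩ ⟨b, hb⟩)

end Cfsg.Agent.Lib.Cores.ClassCount
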