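import Cfsg.Agent.Lib.Cores.ClassCount
import Cfsg.Agent.Lib.Transfer.Frobenius

/-!
More than half as many classes of 2-elements as the order of a Sylow 2-subgroup.
-/

set_option autoImplicit false
set_option linter.unusedSectionVars false

namespace Cfsg.Agent.Lib.Cores.ClassCount

open scoped Classical
open Subgroup

universe u

/-- Weighted counting of fibres. -/
theorem six_mul_card_le {X Y : Type*} [Finite X] (f : X → Y) (hf : Function.Surjective f)
    (F T : Finset X) (hdisj : Disjoint F T)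
    (h2 : ∀ x ∉ F, 2 ≤ Nat.card {z : X // f z = f x})
    (h3 : ∀ x ∈ T, 3 ≤ Nat.card {z : X // f z = f x}) :
    6 * Nat.card Y + T.card ≤ 3 * Nat.card X + 3 * F.card := by
  have : Finite Y := Finite.of_surjective f hf
  have := Fintype.ofFinite X
  have := Fintype.ofFinite Y
  simp only [Nat.card_eq_fintype_card] at h2 h3 ⊢
  let w : X → ℕ := fun x => if x ∈ F then 6 else if x ∈ T then 2 else 3
  have hw : ∀ y : Y, 6 ≤ ∑ x ∈ Finset.univ.filter (fun x => f x = y), w x := by
    intro y
    obtain ⟨x, rfl⟩ := hf y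
    set A := Finset.univ.filter (fun z => f z = f x) with hA
    have hxA : x ∈ A := by simp [hA]
    have hcard : A.card = Fintype.card {z : X // f z = f x} := by rw [Fintype.card_subtype]
    by_cases hF : ∃ z ∈ A, z ∈ F
    · obtain ⟨z, hz, hzF⟩ := hF
      refine le_trans ?_ (Finset.single_le_sum (fun _ _ => Nat.zero_le _) hz)
      simp [w, hzF]
    push Not at hF
    by_cases hT : ∃ z ∈ A, z ∈ T
    · obtain ⟨z, hz, hzT⟩ := hT
      have hzx : f z = f x := (Finset.mem_filter.mp hz).2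
      have h3' := h3 z hzT
      rw [hzx] at h3'
      have : A.card • 2 ≤ ∑ z ∈ A, w z := Finset.card_nsmul_le_sum A w 2 fun a ha => by
        simp only [w, if_neg (hF a ha)]; split_ifs <;> omega
      rw [smul_eq_mul] at this
      omega
    · push Not at hT
      have h2' := h2 x (hF x hxA)
      have : A.card • 3 ≤ ∑ z ∈ A, w z := Finset.card_nsmul_le_sum A w 3 fun a ha => by
        simp only [w, if_neg (hF a ha), if_neg (hT a ha)]; omega
      rw [smul_eq_mul] at this
      omega
  have h1 : 6 * Fintype.card Y ≤ ∑ x, w x := by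
    rw [← Finset.sum_fiberwise_of_maps_to (g := f) (t := Finset.univ) fun x _ => Finset.mem_univ _,
      mul_comm, ← Finset.card_univ, ← smul_eq_mul]
    exact Finset.card_nsmul_le_sum _ _ 6 fun y _ => hw y
  have h4 : ∀ x, w x + (if x ∈ T then 1 else 0) = 3 + (if x ∈ F then 3 else 0) := by
    intro x
    simp only [w]
    by_cases hF : x ∈ F
    · simp [hF, Finset.disjoint_left.mp hdisj hF]
    · by_cases hT : x ∈ T <;> simp [hF, hT]
  have h5 := Finset.sum_congr (s₁ := (Finset.univ : Finset X)) rfl fun x _ => h4 x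
  simp only [Finset.sum_add_distrib, Finset.sum_ite_mem, Finset.univ_inter, Finset.sum_const,
    Finset.card_univ, smul_eq_mul, mul_one] at h5
  linarith

variable {G : Type u} [Group G] [Finite G] {p : ℕ} [hp : Fact p.Prime] (P : Sylow p G)

/-- The elements of `P` which are conjugate to no other element of `P`. -/
def isolated : Set (P : Subgroup G) :=
  {x | ∀ g : G, g * (x : G) * g⁻¹ ∈ (P : Subgroup G) → g * (x : G) * g⁻¹ = x}

theorem isolated_commute {x : (P : Subgroup G)} (hx : x ∈ isolated P) (y : (P : Subgroup G)) :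
    Commute (y : G) x := by
  have h := hx (y : G) ((P : Subgroup G).mul_mem ((P : Subgroup G).mul_mem y.2 x.2)
    ((P : Subgroup G).inv_mem y.2))
  exact mul_inv_eq_iff_eq_mul.mp h

/-- The transporting element can be chosen to fix all isolated elements commuting with it. -/
theorem exists_common_conj {u : (P : Subgroup G)} {g : G} (hg : g * (u : G) * g⁻¹ ∈ (P : Subgroup G)) :
    ∃ d : G, d * (u : G) * d⁻¹ = g * (u : G) * g⁻¹ ∧ ∀ x ∈ isolated P, d * (x : G) * d⁻¹ = x := by
  set v := g * (u : G) * g⁻¹ with hv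
  let C : Subgroup G := centralizer {v}
  have hmem : ∀ x ∈ isolated P, g * ((x : (P : Subgroup G)) : G) * g⁻¹ ∈ C ∧ (x : G) ∈ C := by
    intro x hx
    refine ⟨mem_centralizer_singleton_iff.mpr ?_, mem_centralizer_singleton_iff.mpr ?_⟩
    · have h := (isolated_commute P hx u).map (MulAut.conj g).toMonoidHom
      exact h.symm.eq
    · exact (isolated_commute P hx ⟨v, hg⟩).symm.eq
  -- isolated elements lie in one Sylow subgroup of the centralizer, as do their images
  let A : Subgroup G := closure ((fun x : (P : Subgroup G) => (x : G)) '' isolated P)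
  have hAP : A ≤ (P : Subgroup G) := (closure_le _).mpr fun _ ⟨x, _, hx⟩ => hx ▸ x.2
  have hAC : A ≤ C := (closure_le _).mpr fun _ ⟨x, hx, hxe⟩ => hxe ▸ (hmem x hx).2
  have hAgC : A.map (MulAut.conj g).toMonoidHom ≤ C := by
    rw [MonoidHom.map_closure, closure_le]
    rintro _ ⟨_, ⟨x, hx, rfl⟩, rfl⟩
    exact (hmem x hx).1
  have hA1 : IsPGroup p (A.subgroupOf C) :=
    (P.isPGroup'.to_le hAP).of_equiv (subgroupOfEquivOfLe hAC).symm
  have hA2 : IsPGroup p ((A.map (MulAut.conj g).toMonoidHom).subgroupOf C) :=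
    ((P.isPGroup'.to_le hAP).map _).of_equiv (subgroupOfEquivOfLe hAgC).symm
  obtain ⟨T₁, hT₁⟩ := hA1.exists_le_sylow
  obtain ⟨T₂, hT₂⟩ := hA2.exists_le_sylow
  obtain ⟨c, hc⟩ := MulAction.exists_smul_eq C T₂ T₁
  obtain ⟨Q, hQ⟩ := (T₁.isPGroup'.map C.subtype).exists_le_sylow
  obtain ⟨h, hh⟩ := MulAction.exists_smul_eq G P Q
  refine ⟨(c : G) * g, ?_, fun x hx => ?_⟩
  · have h1 := mem_centralizer_singleton_iff.mp c.2
    rw [show (c : G) * g * (u : G) * ((c : G) * g)⁻¹ = (c : G) * v * (c : G)⁻¹ by rw [hv]; group, h1,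
      mul_inv_cancel_right]
  · -- both `x` and its image lie in `Q`
    have h1 : (x : G) ∈ (Q : Subgroup G) := hQ ⟨⟨x, (hmem x hx).2⟩,
      hT₁ (mem_subgroupOf.mpr (show (x : G) ∈ A from subset_closure ⟨x, hx, rfl⟩)), rfl⟩
    have h2 : (c : G) * g * (x : G) * ((c : G) * g)⁻¹ ∈ (Q : Subgroup G) := by
      refine hQ ⟨c * ⟨g * (x : G) * g⁻¹, (hmem x hx).1⟩ * c⁻¹, ?_, ?_⟩
      · rw [← hc]
        exact ⟨_, hT₂ (mem_subgroupOf.mpr (mem_map_of_mem (MulAut.conj g).toMonoidHom
          (show (x : G) ∈ A from subset_closure ⟨x, hx, rfl⟩))), rfl⟩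
      · show (c : G) * (g * (x : G) * g⁻¹) * (c : G)⁻¹ = _
        group
    rw [← hh] at h1 h2
    obtain ⟨y, hy, hyx⟩ := h1
    obtain ⟨z, hz, hzx⟩ := h2
    have hy' : h * y * h⁻¹ = x := hyx
    have hz' : h * z * h⁻¹ = (c : G) * g * x * ((c : G) * g)⁻¹ := hzx
    have ey : y = h⁻¹ * (x : G) * (h⁻¹)⁻¹ := by rw [← hy']; group
    have ez : z = (h⁻¹ * ((c : G) * g)) * (x : G) * (h⁻¹ * ((c : G) * g))⁻¹ := by
      rw [mul_inv_rev, inv_inv,
        show h⁻¹ * ((c : G) * g) * (x : G) * (((c : G) * g)⁻¹ * h) =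
          h⁻¹ * ((c : G) * g * (x : G) * ((c : G) * g)⁻¹) * h by group, ← hz']
      group
    have e1 : y = (x : G) := by
      have := hx h⁻¹ (ey ▸ hy)
      rw [ey, this]
    have e2 : z = (x : G) := by
      have := hx _ (ez ▸ hz)
      rw [ez, this]
    rw [← hz', e2]
    conv_rhs => rw [← hy', e1]

/-- The isolated elements form a subgroup. -/
def isolatedSubgroup : Subgroup (P : Subgroup G) where
  carrier := isolated P
  one_mem' g _ := by simp
  inv_mem' {x} hx g hg := by
    have h1 : g * ((x : (P : Subgroup G)) : G) * g⁻¹ ∈ (P : Subgroup G) := by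
      have := (P : Subgroup G).inv_mem hg
      simpa [mul_assoc] using this
    have := hx g h1
    rw [Subgroup.coe_inv]
    conv_rhs => rw [← this]
    group
  mul_mem' {x y} hx hy g hg := by
    obtain ⟨d, hd, hdfix⟩ := exists_common_conj P (u := x * y) hg
    rw [← hd, Subgroup.coe_mul]
    calc d * ((x : G) * y) * d⁻¹ = (d * (x : G) * d⁻¹) * (d * (y : G) * d⁻¹) := by group
      _ = _ := by rw [hdfix x hx, hdfix y hy]

/-- Multiplication by an isolated element respects fusion. -/
theorem exists_fused_translate {u w : (P : Subgroup G)} (h : IsConj (u : G) w)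
    {z : (P : Subgroup G)} (hz : z ∈ isolated P) : IsConj ((z * u : (P : Subgroup G)) : G) ((z * w : (P : Subgroup G)) : G) := by
  obtain ⟨g, hg⟩ := isConj_iff.mp h
  obtain ⟨d, hd, hdfix⟩ := exists_common_conj P (u := u) (g := g) (hg ▸ w.2)
  refine isConj_iff.mpr ⟨d, ?_⟩
  rw [Subgroup.coe_mul, Subgroup.coe_mul, ← hg, ← hd]
  calc d * ((z : G) * u) * d⁻¹ = (d * (z : G) * d⁻¹) * (d * (u : G) * d⁻¹) := by group
    _ = _ := by rw [hdfix z hz]

/-- Many classes of 2-elements force a normal 2-complement. -/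
theorem normal_two_complement_of_many [Fact (Nat.Prime 2)] (P : Sylow 2 G)
    (h : Nat.card (P : Subgroup G) < 2 * k G {2}) : Cfsg.HasNormalPComplement 2 G := by
  refine Transfer.hasNormalPComplement_of_frobenius P fun Q hQP n hn hodd => ?_
  by_contra hcen
  obtain ⟨u₀, hu₀, hne⟩ : ∃ u ∈ Q, n * u ≠ u * n := by
    by_contra! hcon
    exact hcen (mem_centralizer_iff.mpr fun u hu => (hcon u hu).symm)
  have : Fintype (P : Subgroup G) := Fintype.ofFinite _
  have hmem : ∀ j : ℕ, n ^ j * u₀ * (n ^ j)⁻¹ ∈ Q := fun j =>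
    (mem_normalizer_iff.mp ((normalizer (Q : Set G)).pow_mem hn j) u₀).mp hu₀
  let w : ℕ → (P : Subgroup G) := fun j => ⟨n ^ j * u₀ * (n ^ j)⁻¹, hQP (hmem j)⟩
  set F := (isolatedSubgroup P) with hF
  let Fs : Finset (P : Subgroup G) := Finset.univ.filter (· ∈ F)
  have hFs : Fs.card = Nat.card F := by
    show (Finset.univ.filter (· ∈ F)).card = _
    rw [← Fintype.card_subtype, Nat.card_eq_fintype_card]
  -- differences between orbit members are not isolated
  have hdiff : ∀ i j, i < 3 → j < 3 → i ≠ j → ¬ ((w i)⁻¹ * w j ∈ F) := by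
    suffices hh : ∀ i j, i < j → j < 3 → ¬ ((w i)⁻¹ * w j ∈ F) by
      intro i j hi hj hij hmem'
      rcases lt_or_gt_of_ne hij with h' | h'
      · exact hh i j h' hj hmem'
      · exact hh j i h' hi (by simpa using F.inv_mem hmem')
    intro i j hij hj hmem'
    set z := (w i)⁻¹ * w j with hz
    have hzQ : (z : G) ∈ Q := Q.mul_mem (Q.inv_mem (hmem i)) (hmem j)
    have hzfix : ∀ l : ℕ, n ^ l * (z : G) * (n ^ l)⁻¹ = z := fun l =>
      hmem' (n ^ l) (hQP ((mem_normalizer_iff.mp ((normalizer (Q : Set G)).pow_mem hn l) _).mp hzQ))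
    set d := j - i with hd
    have hwj : (w j : G) = n ^ d * (w i : G) * (n ^ d)⁻¹ := by
      show n ^ j * u₀ * (n ^ j)⁻¹ = n ^ d * (n ^ i * u₀ * (n ^ i)⁻¹) * (n ^ d)⁻¹
      rw [show j = d + i by omega, pow_add]; group
    have hiter : ∀ l : ℕ, (n ^ d) ^ l * (w i : G) * ((n ^ d) ^ l)⁻¹ = (w i : G) * (z : G) ^ l := by
      intro l
      induction l with
      | zero => simp
      | succ l ih =>
        calc (n ^ d) ^ (l + 1) * (w i : G) * ((n ^ d) ^ (l + 1))⁻¹
            = n ^ d * ((n ^ d) ^ l * (w i : G) * ((n ^ d) ^ l)⁻¹) * (n ^ d)⁻¹ := by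
              rw [pow_succ' (n ^ d)]; group
          _ = (n ^ d * (w i : G) * (n ^ d)⁻¹) * (n ^ d * (z : G) * (n ^ d)⁻¹) ^ l := by
              rw [ih, conj_pow]; group
          _ = (w i : G) * (z : G) * (z : G) ^ l := by
              rw [← hwj, hzfix d, hz, Subgroup.coe_mul, Subgroup.coe_inv, mul_inv_cancel_left]
          _ = _ := by rw [pow_succ', mul_assoc]
    have h1 := hiter (orderOf n)
    have hn1 : (n ^ d) ^ orderOf n = 1 := by
      rw [← pow_mul, mul_comm, pow_mul, pow_orderOf_eq_one, one_pow]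
    rw [hn1] at h1
    simp only [one_mul, inv_one, mul_one, left_eq_mul] at h1
    have hz1 : (z : G) = 1 := by
      rw [← orderOf_eq_one_iff]
      obtain ⟨a, ha⟩ := IsPGroup.iff_orderOf.mp P.isPGroup' z
      rw [← Subgroup.orderOf_coe] at ha
      refine Nat.eq_one_of_dvd_coprimes (a := 2 ^ a) (b := orderOf n) ?_ (dvd_of_eq ha)
        (orderOf_dvd_of_pow_eq_one h1)
      exact Nat.Coprime.pow_left _ hodd.symm
    have hfix : n ^ d * (w i : G) * (n ^ d)⁻¹ = w i := by
      have := hiter 1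
      rwa [pow_one, hz1, pow_one, mul_one] at this
    have hcomm : Commute (n ^ d) u₀ := by
      have h2 : n ^ d * (n ^ i * u₀ * (n ^ i)⁻¹) * (n ^ d)⁻¹ = n ^ i * u₀ * (n ^ i)⁻¹ := hfix
      have h3 : n ^ d * u₀ * (n ^ d)⁻¹ = u₀ := by
        apply mul_left_cancel (a := n ^ i)
        apply mul_right_cancel (b := (n ^ i)⁻¹)
        calc n ^ i * (n ^ d * u₀ * (n ^ d)⁻¹) * (n ^ i)⁻¹ = (n ^ i * n ^ d) * u₀ * (n ^ i * n ^ d)⁻¹ := by
              group
          _ = (n ^ d * n ^ i) * u₀ * (n ^ d * n ^ i)⁻¹ := by rw [← pow_add, ← pow_add, add_comm]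
          _ = n ^ d * (n ^ i * u₀ * (n ^ i)⁻¹) * (n ^ d)⁻¹ := by group
          _ = _ := h2
      exact mul_inv_eq_iff_eq_mul.mp h3
    apply hne
    have hd2 : d = 1 ∨ d = 2 := by omega
    rcases hd2 with h' | h'
    · rw [h', pow_one] at hcomm; exact hcomm.eq
    · rw [h'] at hcomm
      obtain ⟨m, hm⟩ : Odd (orderOf n) := Nat.coprime_two_right.mp hodd
      have he : n = (n ^ 2) ^ (m + 1) := by
        rw [← pow_mul, show 2 * (m + 1) = (2 * m + 1) + 1 by ring, ← hm, pow_succ,
          pow_orderOf_eq_one, one_mul]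
      rw [he]; exact (hcomm.pow_left _).eq
  -- translates of the orbit
  let T : Finset (P : Subgroup G) :=
    ((Finset.range 3) ×ˢ Fs).image fun q => q.2 * w q.1
  have hTcard : T.card = 3 * Fs.card := by
    rw [Finset.card_image_of_injOn, Finset.card_product, Finset.card_range]
    rintro ⟨i, a⟩ hia ⟨j, b⟩ hjb hab
    simp only [Finset.coe_product, Set.mem_prod, Finset.coe_range, Set.mem_Iio, Fs,
      Finset.coe_filter, Finset.mem_univ, true_and, Set.mem_setOf_eq] at hia hjb
    change a * w i = b * w j at hab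
    by_cases hij : i = j
    · subst hij
      rw [mul_left_inj] at hab
      rw [hab]
    exfalso
    refine hdiff i j hia.1 hjb.1 hij ?_
    have : (w i)⁻¹ * w j = (w i)⁻¹ * (b⁻¹ * a) * w i := by
      rw [show w j = b⁻¹ * (a * w i) by rw [hab, inv_mul_cancel_left]]; group
    rw [this]
    have hc : ∀ x ∈ F, ∀ y : (P : Subgroup G), y⁻¹ * x * y = x := fun x hx y => by
      apply Subtype.ext
      rw [Subgroup.coe_mul, Subgroup.coe_mul, Subgroup.coe_inv, mul_assoc,
        ← (isolated_commute P hx y).eq, inv_mul_cancel_left]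
    rw [hc _ (F.mul_mem (F.inv_mem hjb.2) hia.2)]
    exact F.mul_mem (F.inv_mem hjb.2) hia.2
  have hwconj : ∀ i j : ℕ, IsConj (w i : G) (w j : G) := fun i j => by
    have e : ∀ l : ℕ, IsConj u₀ (w l : G) := fun l => isConj_iff.mpr ⟨n ^ l, rfl⟩
    exact (e i).symm.trans (e j)
  have hwne : ∀ i j, i < 3 → j < 3 → i ≠ j → w i ≠ w j := fun i j hi hj hij h' =>
    hdiff i j hi hj hij (by rw [h', inv_mul_cancel]; exact F.one_mem)
  have hsame : ∀ x y : (P : Subgroup G), IsConj (x : G) y → sylowClass P x = sylowClass P y :=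
    fun x y hxy => Subtype.ext (ConjClasses.mk_eq_mk_iff_isConj.mpr hxy)
  have h3 : ∀ x ∈ T, 3 ≤ Nat.card {z : (P : Subgroup G) // sylowClass P z = sylowClass P x} := by
    intro x hx
    simp only [T, Finset.mem_image, Finset.mem_product, Finset.mem_range, Fs, Finset.mem_filter,
      Finset.mem_univ, true_and] at hx
    obtain ⟨⟨i, a⟩, ⟨hi, ha⟩, rfl⟩ := hx
    let e : Fin 3 → {z : (P : Subgroup G) // sylowClass P z = sylowClass P (a * w i)} := fun l =>
      ⟨a * w l, hsame _ _ (exists_fused_translate P (hwconj l i) ha)⟩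
    have he : Function.Injective e := fun l m hlm => by
      by_contra hne'
      exact hwne l m l.2 m.2 (fun h' => hne' (Fin.ext h')) (mul_left_cancel (congrArg Subtype.val hlm))
    have := Nat.card_le_card_of_injective e he
    rwa [Nat.card_fin] at this
  have h2 : ∀ x ∉ Fs, 2 ≤ Nat.card {z : (P : Subgroup G) // sylowClass P z = sylowClass P x} := by
    intro x hx
    simp only [Fs, Finset.mem_filter, Finset.mem_univ, true_and] at hx
    have hx' : ¬ ∀ g : G, g * (x : G) * g⁻¹ ∈ (P : Subgroup G) → g * (x : G) * g⁻¹ = x := hx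
    push Not at hx'
    obtain ⟨g, hg, hgx⟩ := hx'
    exact fibre_two (z := ⟨g * (x : G) * g⁻¹, hg⟩) (fun e => hgx (congrArg Subtype.val e))
      (hsame _ _ (isConj_iff.mpr ⟨g, rfl⟩ : IsConj (x : G) _).symm)
  have hdisj : Disjoint Fs T := by
    rw [Finset.disjoint_left]
    intro x hxF hxT
    simp only [Fs, Finset.mem_filter, Finset.mem_univ, true_and] at hxF
    simp only [T, Finset.mem_image, Finset.mem_product, Finset.mem_range, Fs, Finset.mem_filter,
      Finset.mem_univ, true_and] at hxT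
    obtain ⟨⟨i, a⟩, ⟨hi, ha⟩, rfl⟩ := hxT
    have hwF : w i ∈ F := by
      have := F.mul_mem (F.inv_mem ha) hxF
      rwa [inv_mul_cancel_left] at this
    have hall : ∀ l : ℕ, w l = w i := fun l => by
      obtain ⟨g, hg⟩ := isConj_iff.mp (hwconj i l)
      apply Subtype.ext
      rw [← hg]; exact hwF g (hg ▸ (w l).2)
    exact hwne 0 1 (by norm_num) (by norm_num) (by norm_num) ((hall 0).trans (hall 1).symm)
  have h1 := six_mul_card_le (sylowClass P) (sylowClass_surjective P) Fs T hdisj h2 h3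
  rw [hTcard] at h1
  change 6 * k G {2} + 3 * Fs.card ≤ _ at h1
  omega

/-- With a normal complement conjugate elements of `P` are conjugate in `P`. -/
theorem k_eq_classes_of_complement (hN : Cfsg.HasNormalPComplement p G) :
    k G {p} = Nat.card (ConjClasses (P : Subgroup G)) := by
  let g : ConjClasses (P : Subgroup G) → {c : ConjClasses G // ∀ x ∈ c.carrier, Pi {p} x} :=
    Quotient.lift (sylowClass P) fun a b hab => Subtype.ext
      (ConjClasses.mk_eq_mk_iff_isConj.mpr (MonoidHom.map_isConj (P : Subgroup G).subtype hab))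
  refine (Nat.card_congr (Equiv.ofBijective g ⟨?_, fun c => ?_⟩)).symm
  swap
  · obtain ⟨y, rfl⟩ := sylowClass_surjective P c
    exact ⟨ConjClasses.mk y, rfl⟩
  obtain ⟨P', N, hNn, hc⟩ := hN
  haveI := hNn
  have hcop : ¬ p ∣ Nat.card N := by
    rw [← hc.index_eq_card]
    exact P'.not_dvd_index
  have hbij : Function.Bijective ((QuotientGroup.mk' N).comp (P : Subgroup G).subtype) := by
    refine (Nat.bijective_iff_injective_and_card _).mpr ⟨?_, ?_⟩
    · rw [injective_iff_map_eq_one]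
      intro x hx
      have h1 : (x : G) ∈ N := (QuotientGroup.eq_one_iff _).mp hx
      obtain ⟨j, hj⟩ := IsPGroup.iff_orderOf.mp P.isPGroup' x
      rw [← orderOf_eq_one_iff]
      refine Nat.eq_one_of_dvd_coprimes (a := p ^ j) (b := Nat.card N) ?_ (dvd_of_eq hj) ?_
      · exact Nat.Coprime.pow_left _ ((hp.out.coprime_iff_not_dvd).mpr hcop)
      · have := orderOf_dvd_natCard (⟨(x : G), h1⟩ : N)
        rwa [Subgroup.orderOf_mk, Subgroup.orderOf_coe] at this
    · show Nat.card (P : Subgroup G) = N.index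
      rw [hc.symm.index_eq_card, P.card_eq_multiplicity, P'.card_eq_multiplicity]
  intro a b hab
  obtain ⟨a, rfl⟩ := ConjClasses.mk_surjective a
  obtain ⟨b, rfl⟩ := ConjClasses.mk_surjective b
  obtain ⟨c, hc'⟩ := isConj_iff.mp (ConjClasses.mk_eq_mk_iff_isConj.mp (congrArg Subtype.val hab))
  obtain ⟨d, hd⟩ := hbij.2 (QuotientGroup.mk' N c)
  refine ConjClasses.mk_eq_mk_iff_isConj.mpr (isConj_iff.mpr ⟨d, hbij.1 ?_⟩)
  rw [map_mul, map_mul, map_inv, hd]
  show QuotientGroup.mk' N c * QuotientGroup.mk' N (a : G) * (QuotientGroup.mk' N c)⁻¹ = QuotientGroup.mk' N (b : G)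
  rw [← map_inv, ← map_mul, ← map_mul, hc']

theorem k_le_classes : k G {p} ≤ Nat.card (ConjClasses (P : Subgroup G)) := by
  refine Nat.card_le_card_of_surjective (Quotient.lift (sylowClass P) fun a b hab => Subtype.ext
    (ConjClasses.mk_eq_mk_iff_isConj.mpr (MonoidHom.map_isConj (P : Subgroup G).subtype hab)))
    fun c => ?_
  obtain ⟨y, rfl⟩ := sylowClass_surjective P c
  exact ⟨ConjClasses.mk y, rfl⟩

end Cfsg.Agent.Lib.Cores.ClassCount
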