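import Cfsg.Agent.Lib.Cores.Kreknin
import Cfsg.Agent.Lib.Cores.AssocLieRing
import Cfsg.Agent.Lib.Solvable.FixedPointFree
import Mathlib

/-!
The nilpotency class of a group with a fixed-point-free automorphism of prime order.
-/

set_option autoImplicit false

open scoped TensorProduct commutatorElement

namespace Cfsg.Agent.Lib.Cores.FpfClass

open AssocLie

variable {G : Type*} [Group G] [Finite G] {p : ℕ} [hp : Fact p.Prime]

theorem exists_inv_mul_apply (α : G ≃* G) (hfix : ∀ g, α g = g → g = 1) {k : ℕ} {y : G}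
    (hy : y ∈ γ G k) : ∃ x ∈ γ G k, y = x⁻¹ * α x := by
  let f : γ G k → γ G k := fun x =>
    ⟨(x : G)⁻¹ * α x, mul_mem (inv_mem x.2) (apply_mem_γ α.toMonoidHom x.2)⟩
  have hf : Function.Injective f := fun a b hab => by
    have h : (a : G)⁻¹ * α a = (b : G)⁻¹ * α b := congrArg Subtype.val hab
    have h2 : α ((b : G) * (a : G)⁻¹) = (b : G) * (a : G)⁻¹ := by
      have h3 : α (a : G) = (a : G) * ((b : G)⁻¹ * α b) := by rw [← h]; group
      rw [map_mul, map_inv, h3]
      group
    exact Subtype.ext (mul_inv_eq_one.mp (hfix _ h2)).symm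
  obtain ⟨x, hx⟩ := Finite.surjective_of_injective hf ⟨y, hy⟩
  exact ⟨x, x.2, (congrArg Subtype.val hx).symm⟩

theorem not_dvd_card (α : MulAut G) (hα : α ^ p = 1) (hfix : ∀ g, α g = g → g = 1) :
    ¬ p ∣ Nat.card G := by
  classical
  have : Fintype G := Fintype.ofFinite G
  let f : Function.End G := fun v => α v
  have hf : f ^ p ^ 1 = 1 := by
    rw [pow_one]
    funext v
    have : ∀ k : ℕ, (f ^ k) v = (α ^ k) v := by
      intro k
      induction k generalizing v with
      | zero => rfl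
      | succ k ih => rw [pow_succ, pow_succ]; exact ih (α v)
    rw [this, hα]
    rfl
  have h := Equiv.Perm.card_fixedPoints_modEq hf
  have h1 : Fintype.card (Function.fixedPoints f) = 1 := by
    rw [Fintype.card_eq_one_iff]
    exact ⟨⟨1, map_one α⟩, fun v => Subtype.ext (hfix v.1 v.2)⟩
  rw [h1] at h
  rw [Nat.card_eq_fintype_card, Nat.dvd_iff_mod_eq_zero, h, Nat.mod_eq_of_lt hp.out.one_lt]
  exact one_ne_zero

theorem natCard_nsmul_eq_zero (y : L G) : Nat.card G • y = 0 := by
  have h : (Nat.card G • AddMonoidHom.id (L G) : L G →+ L G) = 0 := hom_ext fun k x hx => by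
    have e1 : ∀ n : ℕ, n • e k x = e k (x ^ n) := by
      intro n
      induction n with
      | zero => rw [zero_nsmul, pow_zero, e_one]
      | succ n ih => rw [succ_nsmul, pow_succ, e_mul (pow_mem hx n) hx, ih]
    show Nat.card G • e k x = 0
    rw [e1, pow_card_eq_one', e_one]
  exact DFunLike.congr_fun h y

/-- The bridge from graded Lie rings to groups. -/
theorem lowerCentralSeries_eq_bot (α : MulAut G) (hα : α ^ p = 1)
    (hfix : ∀ g, α g = g → g = 1) (c : ℕ)
    (hc : ∀ T : ZMod p → AddSubgroup (AdjoinRoot (Polynomial.cyclotomic p ℤ) ⊗[ℤ] L G),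
      Kreknin.IsGr T → Kreknin.lcsGr T c = ⊥) :
    (⊤ : Subgroup G).lowerCentralSeries c = ⊥ := by
  classical
  have hnil : Group.IsNilpotent G :=
    Cfsg.Agent.Lib.Solvable.FixedPointFree.isNilpotent_of_fixedPointFree hp.out α hα hfix
  let R := AdjoinRoot (Polynomial.cyclotomic p ℤ)
  let ω : R := AdjoinRoot.root _
  have hsum : ∑ i ∈ Finset.range p, ω ^ i = 0 := by
    have h : (Polynomial.cyclotomic p ℤ).eval₂ (AdjoinRoot.of _) ω = 0 := AdjoinRoot.eval₂_root _
    simpa [Polynomial.cyclotomic_prime, Polynomial.eval₂_finsetSum, ω, R] using h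
  have hω : ω ^ p = 1 := by
    have h := geom_sum_mul ω p
    rw [hsum, zero_mul] at h
    exact sub_eq_zero.mp h.symm
  let pw : ZMod p → R := fun a => ω ^ a.val
  have hpw : ∀ a b, pw (a + b) = pw a * pw b := fun a b => by
    show ω ^ (a + b).val = ω ^ a.val * ω ^ b.val
    rw [ZMod.val_add, ← pow_add, ← pow_eq_pow_mod _ hω]
  have hpw0 : pw 0 = 1 := by simp [pw]
  have hpwsum : ∑ t : ZMod p, pw t = 0 := by
    rw [← hsum]
    exact Finset.sum_nbij' (fun a : ZMod p => a.val) (fun i => (i : ZMod p))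
      (fun a _ => Finset.mem_range.mpr a.val_lt) (fun i _ => Finset.mem_univ _)
      (fun a _ => ZMod.natCast_zmod_val a)
      (fun i hi => ZMod.val_cast_of_lt (Finset.mem_range.mp hi)) (fun a _ => rfl)
  let σL : Module.End ℤ (L G) := (mapHom α.toMonoidHom).toIntLinearMap
  have hσe : ∀ (s k : ℕ) (x : G), x ∈ γ G k → (σL ^ s) (e k x) = e k ((α ^ s) x) := by
    intro s
    induction s with
    | zero => intro k x _; rfl
    | succ s ih =>
      intro k x hx
      rw [pow_succ, pow_succ]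
      show (σL ^ s) (mapHom α.toMonoidHom (e k x)) = _
      rw [mapHom_e _ hx, ih k _ (apply_mem_γ α.toMonoidHom hx)]
      rfl
  have hσp : σL ^ p = 1 := by
    refine LinearMap.toAddMonoidHom_injective (hom_ext fun k x hx => ?_)
    show (σL ^ p) (e k x) = e k x
    rw [hσe p k x hx, hα]
    rfl
  have htrace : ∑ s ∈ Finset.range p, σL ^ s = 0 := by
    refine LinearMap.toAddMonoidHom_injective (hom_ext fun k y hy => ?_)
    show (∑ s ∈ Finset.range p, σL ^ s) (e k y) = 0
    obtain ⟨x, hx, rfl⟩ := exists_inv_mul_apply α hfix hy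
    rw [LinearMap.sum_apply]
    have h1 : ∀ s, (σL ^ s) (e k (x⁻¹ * α x)) = e k ((α ^ (s + 1)) x) - e k ((α ^ s) x) := by
      intro s
      have ha : ∀ t, (α ^ t) x ∈ γ G k := fun t => apply_mem_γ (α ^ t : MulAut G).toMonoidHom hx
      rw [hσe s k _ hy, map_mul, map_inv, e_mul (inv_mem (ha s)) (by
        rw [← MulAut.mul_apply, ← pow_succ]; exact ha (s + 1)), e_inv (ha s), ← MulAut.mul_apply,
        ← pow_succ, neg_add_eq_sub]
    simp only [h1]
    rw [Finset.sum_range_sub (fun s => e k ((α ^ s) x)) p, hα, pow_zero, sub_self]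
  let σ : Module.End R (R ⊗[ℤ] L G) := σL.baseChange R
  have hσpow : ∀ (s : ℕ) (r : R) (y : L G), (σ ^ s) (r ⊗ₜ y) = r ⊗ₜ (σL ^ s) y := by
    intro s
    induction s with
    | zero => intro r y; rfl
    | succ s ih =>
      intro r y
      rw [pow_succ, pow_succ]
      show (σ ^ s) (σ (r ⊗ₜ y)) = r ⊗ₜ (σL ^ s) (σL y)
      rw [LinearMap.baseChange_tmul, ih]
  have hσp' : σ ^ p = 1 := by
    refine LinearMap.ext fun x => ?_
    induction x using TensorProduct.induction_on with
    | zero => simp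
    | tmul r y => rw [hσpow, hσp]; rfl
    | add x y hx hy => rw [map_add, map_add, hx, hy]
  have htrace' : ∀ x, ∑ s ∈ Finset.range p, (σ ^ s) x = 0 := by
    intro x
    induction x using TensorProduct.induction_on with
    | zero => simp
    | tmul r y =>
      simp only [hσpow, ← TensorProduct.tmul_sum]
      rw [← LinearMap.sum_apply, htrace, LinearMap.zero_apply, TensorProduct.tmul_zero]
    | add x y hx hy => simp only [map_add, Finset.sum_add_distrib, hx, hy, add_zero]
  have hl0 : ∀ x : R ⊗[ℤ] L G, ⁅x, (0 : R ⊗[ℤ] L G)⁆ = 0 := fun x => lie_zero x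
  have h0l : ∀ x : R ⊗[ℤ] L G, ⁅(0 : R ⊗[ℤ] L G), x⁆ = 0 := fun x => zero_lie x
  have hla : ∀ x y z : R ⊗[ℤ] L G, ⁅x, y + z⁆ = ⁅x, y⁆ + ⁅x, z⁆ := fun x y z => lie_add x y z
  have hal : ∀ x y z : R ⊗[ℤ] L G, ⁅x + y, z⁆ = ⁅x, z⁆ + ⁅y, z⁆ := fun x y z => add_lie x y z
  have hln : ∀ x y : R ⊗[ℤ] L G, ⁅x, -y⁆ = -⁅x, y⁆ := fun x y => lie_neg x y
  have hnl : ∀ x y : R ⊗[ℤ] L G, ⁅-x, y⁆ = -⁅x, y⁆ := fun x y => neg_lie x y
  have hls : ∀ (t : R) (x y : R ⊗[ℤ] L G), ⁅x, t • y⁆ = t • ⁅x, y⁆ := fun t x y => lie_smul t x y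
  have hsl : ∀ (t : R) (x y : R ⊗[ℤ] L G), ⁅t • x, y⁆ = t • ⁅x, y⁆ := fun t x y => smul_lie t x y
  have hlie : ∀ x y, σ ⁅x, y⁆ = ⁅σ x, σ y⁆ := by
    intro x y
    induction x using TensorProduct.induction_on with
    | zero => rw [h0l, map_zero, h0l]
    | add a b ha hb => simp only [hal, map_add, ha, hb]
    | tmul r u =>
      induction y using TensorProduct.induction_on with
      | zero => rw [hl0, map_zero, hl0]
      | add a b ha hb => simp only [hla, map_add, ha, hb]
      | tmul t v =>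
        rw [LieAlgebra.ExtendScalars.bracket_tmul]
        simp only [σ, LinearMap.baseChange_tmul, LieAlgebra.ExtendScalars.bracket_tmul]
        exact congrArg _ (mapHom_lie _ u v)
  have hpN : Nat.Coprime p (Nat.card G) :=
    hp.out.coprime_iff_not_dvd.mpr (not_dvd_card α hα hfix)
  obtain ⟨m, t, hmt⟩ : ∃ m t : ℤ, (p : ℤ) * m + (Nat.card G : ℤ) * t = 1 :=
    ⟨_, _, by rw [← Nat.gcd_eq_gcd_ab, hpN.gcd_eq_one]; rfl⟩
  have hN : ∀ x : R ⊗[ℤ] L G, (Nat.card G : ℤ) • x = 0 := by
    intro x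
    induction x using TensorProduct.induction_on with
    | zero => simp
    | tmul r y =>
      rw [← TensorProduct.tmul_smul, natCast_zsmul, natCard_nsmul_eq_zero, TensorProduct.tmul_zero]
    | add x y hx hy => rw [smul_add, hx, hy, add_zero]
  have hdiv : ∀ x : R ⊗[ℤ] L G, m • (p • x) = x := by
    intro x
    rw [← natCast_zsmul, smul_smul, mul_comm]
    conv_rhs => rw [← one_smul ℤ x, ← hmt, add_smul, mul_comm ((Nat.card G : ℤ)) t, ← smul_smul t,
      hN, smul_zero, add_zero]
  let S : ZMod p → AddSubgroup (R ⊗[ℤ] L G) := fun j =>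
    (LinearMap.ker (σ - pw j • (1 : Module.End R (R ⊗[ℤ] L G)))).toAddSubgroup
  have hS : ∀ j x, x ∈ S j ↔ σ x = pw j • x := fun j x => by
    show (σ - pw j • (1 : Module.End R (R ⊗[ℤ] L G))) x = 0 ↔ _
    rw [LinearMap.sub_apply, sub_eq_zero]
    rfl
  have hgr : Kreknin.IsGr S := by
    refine ⟨?_, fun i j a ha b hb => ?_⟩
    · rw [AddSubgroup.eq_bot_iff_forall]
      intro x hx
      rw [hS, hpw0, one_smul] at hx
      have h1 : ∀ s, (σ ^ s) x = x := by
        intro s
        induction s with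
        | zero => rfl
        | succ s ih => rw [pow_succ, Module.End.mul_apply, hx, ih]
      have h2 := htrace' x
      simp only [h1, Finset.sum_const, Finset.card_range] at h2
      rw [← hdiv x, h2, smul_zero]
    · rw [hS] at ha hb ⊢
      rw [hlie, ha, hb, hsl, hls, smul_smul, hpw]
  let Tot : ℕ → AddSubgroup (R ⊗[ℤ] L G) := fun n =>
    AddSubgroup.closure {x | ∃ j, x ∈ Kreknin.lcsGr S n j}
  have htot0 : ∀ x, x ∈ Tot 0 := by
    intro x
    let P : ZMod p → R ⊗[ℤ] L G := fun j =>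
      ∑ s ∈ Finset.range p, pw (-j * (s : ZMod p)) • (σ ^ s) x
    have hP : ∀ j, P j ∈ S j := by
      intro j
      rw [hS]
      let f : ℕ → R ⊗[ℤ] L G := fun s => (pw j * pw (-j * (s : ZMod p))) • (σ ^ s) x
      have h1 : σ (P j) = ∑ s ∈ Finset.range p, f (s + 1) := by
        rw [map_sum]
        refine Finset.sum_congr rfl fun s _ => ?_
        show σ _ = (pw j * pw (-j * ((s + 1 : ℕ) : ZMod p))) • (σ ^ (s + 1)) x
        rw [map_smul, ← Module.End.mul_apply, ← pow_succ', ← hpw]
        congr 2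
        push_cast
        ring
      have h2 : pw j • P j = ∑ s ∈ Finset.range p, f s := by
        rw [Finset.smul_sum]
        exact Finset.sum_congr rfl fun s _ => smul_smul _ _ _
      have h3 : f p = f 0 := by
        simp only [f, hσp', ZMod.natCast_self, Nat.cast_zero, pow_zero]
      rw [h1, h2]
      have := Finset.sum_range_succ f p
      rw [Finset.sum_range_succ', h3] at this
      exact add_right_cancel this
    have hsumP : ∑ j : ZMod p, P j = p • x := by
      show ∑ j : ZMod p, ∑ s ∈ Finset.range p, pw (-j * (s : ZMod p)) • (σ ^ s) x = p • x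
      rw [Finset.sum_comm]
      simp only [← Finset.sum_smul]
      rw [Finset.sum_eq_single 0]
      · simp only [Nat.cast_zero, mul_zero, hpw0, Finset.sum_const, Finset.card_univ, ZMod.card,
          pow_zero, Module.End.one_apply, nsmul_eq_mul, mul_one]
        exact (Nat.cast_smul_eq_nsmul R p x)
      · intro s hs hs0
        have hsne : (s : ZMod p) ≠ 0 := by
          rw [Ne, ZMod.natCast_eq_zero_iff]
          exact fun hd => absurd (Nat.le_of_dvd (Nat.pos_of_ne_zero hs0) hd)
            (not_le.mpr (Finset.mem_range.mp hs))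
        have : ∑ j : ZMod p, pw (-j * (s : ZMod p)) = 0 := by
          rw [← hpwsum]
          exact Fintype.sum_equiv ((Equiv.neg _).trans (Equiv.mulRight₀ _ hsne)) _ _ fun j => rfl
        rw [this, zero_smul]
      · exact fun h => absurd (Finset.mem_range.mpr hp.out.pos) h
    rw [← hdiv x, ← hsumP]
    exact AddSubgroup.zsmul_mem _
      (AddSubgroup.sum_mem _ fun j _ => AddSubgroup.subset_closure
        (show P j ∈ {x | ∃ l, x ∈ Kreknin.lcsGr S 0 l} from ⟨j, hP j⟩)) m
  have htot_succ : ∀ n, ∀ a ∈ Tot n, ∀ b ∈ Tot 0, ⁅a, b⁆ ∈ Tot (n + 1) := by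
    intro n a ha b hb
    induction ha using AddSubgroup.closure_induction with
    | mem u hu =>
      obtain ⟨i, hi⟩ := hu
      induction hb using AddSubgroup.closure_induction with
      | mem v hv =>
        obtain ⟨j, hj⟩ := hv
        exact AddSubgroup.subset_closure (show ∃ l, ⁅u, v⁆ ∈ Kreknin.lcsGr S (n + 1) l from
          ⟨i + j, Kreknin.mem_br hi hj⟩)
      | zero => rw [hl0]; exact zero_mem _
      | add _ _ _ _ h1 h2 => rw [hla]; exact add_mem h1 h2
      | neg _ _ h => rw [hln]; exact neg_mem h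
    | zero => rw [h0l]; exact zero_mem _
    | add _ _ _ _ h1 h2 => rw [hal]; exact add_mem h1 h2
    | neg _ _ h => rw [hnl]; exact neg_mem h
  have hmem : ∀ k, ∀ x ∈ γ G k, (1 : R) ⊗ₜ[ℤ] e k x ∈ Tot k := by
    intro k
    induction k with
    | zero => exact fun x _ => htot0 _
    | succ k ih =>
      let H : Subgroup G :=
        { carrier := {x | x ∈ γ G (k + 1) ∧ (1 : R) ⊗ₜ[ℤ] e (k + 1) x ∈ Tot (k + 1)}
          one_mem' := ⟨one_mem _, by rw [e_one, TensorProduct.tmul_zero]; exact zero_mem _⟩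
          mul_mem' := fun {a b} ha hb => ⟨mul_mem ha.1 hb.1, by
            rw [e_mul ha.1 hb.1, TensorProduct.tmul_add]; exact add_mem ha.2 hb.2⟩
          inv_mem' := fun {a} ha => ⟨inv_mem ha.1, by
            rw [e_inv ha.1, TensorProduct.tmul_neg]; exact neg_mem ha.2⟩ }
      intro x hx
      have hle : γ G (k + 1) ≤ H := by
        show ⁅γ G k, (⊤ : Subgroup G)⁆ ≤ H
        refine Subgroup.commutator_le.mpr fun a ha b _ =>
          ⟨Subgroup.commutator_mem_commutator ha (Subgroup.mem_top b), ?_⟩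
        have h1 := lie_e (i := k) (j := 0) ha (Subgroup.mem_top b : b ∈ γ G 0)
        rw [add_zero] at h1
        rw [← h1, ← one_mul (1 : R), ← LieAlgebra.ExtendScalars.bracket_tmul]
        exact htot_succ k _ (ih a ha) _ (htot0 _)
      exact (hle hx).2
  have hTc : Tot c = ⊥ := by
    refine le_bot_iff.mp ((AddSubgroup.closure_le _).mpr ?_)
    rintro x ⟨j, hj⟩
    rw [hc S hgr] at hj
    exact hj
  have hmon : (Polynomial.cyclotomic p ℤ).Monic := Polynomial.cyclotomic.monic p ℤ
  let pb := AdjoinRoot.powerBasis' hmon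
  have hdim : 0 < pb.dim := by
    show 0 < (Polynomial.cyclotomic p ℤ).natDegree
    rw [Polynomial.natDegree_cyclotomic]
    exact Nat.totient_pos.mpr hp.out.pos
  let r : R →ₗ[ℤ] ℤ := pb.basis.coord ⟨0, hdim⟩
  have hr : r 1 = 1 := by
    have h1 : pb.basis ⟨0, hdim⟩ = (1 : R) := by rw [PowerBasis.basis_eq_pow]; exact pow_zero _
    show pb.basis.repr (1 : R) ⟨0, hdim⟩ = 1
    rw [← h1, Module.Basis.repr_self, Finsupp.single_eq_same]
  have hle : γ G c ≤ γ G (c + 1) := fun x hx => by
    refine mem_of_e_eq_zero hx ?_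
    have h0 : (1 : R) ⊗ₜ[ℤ] e c x = 0 := by
      have := hmem c x hx
      rwa [hTc, AddSubgroup.mem_bot] at this
    have h1 := congrArg ((TensorProduct.lid ℤ (L G)).toLinearMap ∘ₗ r.rTensor (L G)) h0
    simpa [hr] using h1
  have hst : ∀ n, γ G c ≤ γ G (c + n) := by
    intro n
    induction n with
    | zero => exact le_rfl
    | succ n ih =>
      refine hle.trans ?_
      show ⁅γ G c, (⊤ : Subgroup G)⁆ ≤ ⁅γ G (c + n), (⊤ : Subgroup G)⁆
      exact Subgroup.commutator_mono ih le_rfl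
  obtain ⟨n, hn⟩ := Subgroup.nilpotent_iff_lowerCentralSeries.mp hnil
  refine le_bot_iff.mp ((hst n).trans (le_of_le_of_eq ?_ hn))
  exact Subgroup.lowerCentralSeries_antitone _ (Nat.le_add_left n c)

end Cfsg.Agent.Lib.Cores.FpfClass
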