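import Mathlib

/-!
Graded Lie rings with trivial zero component: the theorems of Kreknin and Higman.
-/

set_option autoImplicit false

namespace Cfsg.Agent.Lib.Cores.Kreknin

variable {M : Type*} [LieRing M] {p : ℕ}

/-- Graded families closed under brackets, trivial in degree zero. -/
def IsGr (T : ZMod p → AddSubgroup M) : Prop :=
  T 0 = ⊥ ∧ ∀ i j, ∀ a ∈ T i, ∀ b ∈ T j, ⁅a, b⁆ ∈ T (i + j)

/-- The span of the brackets, by degree. -/
def br (A B : ZMod p → AddSubgroup M) (j : ZMod p) : AddSubgroup M :=
  AddSubgroup.closure {m | ∃ i, ∃ a ∈ A i, ∃ b ∈ B (j - i), m = ⁅a, b⁆}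

theorem mem_br {A B : ZMod p → AddSubgroup M} {i k : ZMod p} {a b : M} (ha : a ∈ A i)
    (hb : b ∈ B k) : ⁅a, b⁆ ∈ br A B (i + k) :=
  AddSubgroup.subset_closure ⟨i, a, ha, b, by rwa [add_sub_cancel_left], rfl⟩

theorem br_le {A B C : ZMod p → AddSubgroup M}
    (h : ∀ i k, ∀ a ∈ A i, ∀ b ∈ B k, ⁅a, b⁆ ∈ C (i + k)) : br A B ≤ C := fun j =>
  (AddSubgroup.closure_le _).mpr fun _ ⟨i, a, ha, b, hb, hm⟩ => by
    have := h i (j - i) a ha b hb
    rw [add_sub_cancel] at this
    exact hm ▸ this

theorem br_mono {A A' B B' : ZMod p → AddSubgroup M} (hA : A ≤ A') (hB : B ≤ B') :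
    br A B ≤ br A' B' :=
  br_le fun i k _ ha _ hb => mem_br (hA i ha) (hB k hb)

/-- The derived series, by degree. -/
def derivedGr (T : ZMod p → AddSubgroup M) : ℕ → ZMod p → AddSubgroup M
  | 0 => T
  | n + 1 => br (derivedGr T n) (derivedGr T n)

/-- The lower central series, by degree. -/
def lcsGr (T : ZMod p → AddSubgroup M) : ℕ → ZMod p → AddSubgroup M
  | 0 => T
  | n + 1 => br (lcsGr T n) T

theorem derivedGr_add (T : ZMod p → AddSubgroup M) (a b : ℕ) :
    derivedGr T (a + b) = derivedGr (derivedGr T a) b := by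
  induction b with
  | zero => rfl
  | succ b ih => rw [← add_assoc]; simp only [derivedGr, ih]

theorem derivedGr_le {T : ZMod p → AddSubgroup M} (hT : IsGr T) : ∀ n, derivedGr T n ≤ T
  | 0 => le_rfl
  | n + 1 => br_le fun i k a ha b hb =>
      hT.2 i k a (derivedGr_le hT n i ha) b (derivedGr_le hT n k hb)

theorem isGr_br_self {T : ZMod p → AddSubgroup M} (hT : IsGr T) : IsGr (br T T) := by
  have hle : br T T ≤ T := br_le hT.2
  exact ⟨le_bot_iff.mp ((hle 0).trans hT.1.le),
    fun i j a ha b hb => mem_br (hle i ha) (hle j hb)⟩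

theorem isGr_derivedGr {T : ZMod p → AddSubgroup M} (hT : IsGr T) : ∀ n, IsGr (derivedGr T n)
  | 0 => hT
  | n + 1 => isGr_br_self (isGr_derivedGr hT n)

theorem lcsGr_le {H T : ZMod p → AddSubgroup M} (hT : IsGr T) (hH : H ≤ T) :
    ∀ n, lcsGr H n ≤ T
  | 0 => hH
  | n + 1 => br_le fun i k a ha b hb => hT.2 i k a (lcsGr_le hT hH n i ha) b (hH k hb)

theorem leibniz (a b c : M) : ⁅⁅a, b⁆, c⁆ = ⁅a, ⁅b, c⁆⁆ + ⁅⁅a, c⁆, b⁆ := by
  rw [leibniz_lie a b c, ← lie_skew ⁅a, c⁆ b]
  abel

theorem lcsGr_br (H : ZMod p → AddSubgroup M) :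
    ∀ b a i k, ∀ x ∈ lcsGr H a i, ∀ y ∈ lcsGr H b k, ⁅x, y⁆ ∈ lcsGr H (a + b + 1) (i + k) := by
  intro b
  induction b with
  | zero => exact fun a i k x hx y hy => mem_br hx hy
  | succ b ih =>
    intro a i k x hx y hy
    induction hy using AddSubgroup.closure_induction with
    | mem z hz =>
      obtain ⟨j, u, hu, h, hh, rfl⟩ := hz
      have e : ⁅x, ⁅u, h⁆⁆ = ⁅⁅x, u⁆, h⁆ - ⁅⁅x, h⁆, u⁆ := by rw [leibniz x u h]; abel
      rw [e]
      refine sub_mem ?_ ?_
      · have := mem_br (ih a i j x hx u hu) hh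
        rwa [add_assoc i j (k - j), add_sub_cancel] at this
      · have := ih (a + 1) (i + (k - j)) j ⁅x, h⁆ (mem_br hx hh) u hu
        rwa [add_assoc i (k - j) j, sub_add_cancel, show a + 1 + b + 1 = a + (b + 1) + 1 by omega]
          at this
    | zero => rw [lie_zero]; exact zero_mem _
    | add z w _ _ hz hw => rw [lie_add]; exact add_mem hz hw
    | neg z _ hz => rw [lie_neg]; exact neg_mem hz

/-- The subring generated by a graded family, by degree. -/
def subGr (H : ZMod p → AddSubgroup M) (j : ZMod p) : AddSubgroup M :=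
  AddSubgroup.closure {m | ∃ n, m ∈ lcsGr H n j}

theorem br_subGr (H : ZMod p → AddSubgroup M) :
    br (subGr H) (subGr H) ≤ fun j => AddSubgroup.closure {m | ∃ n, m ∈ lcsGr H (n + 1) j} := by
  refine br_le fun i k a ha b hb => ?_
  change a ∈ AddSubgroup.closure _ at ha
  change b ∈ AddSubgroup.closure _ at hb
  induction ha using AddSubgroup.closure_induction with
  | mem x hx =>
    obtain ⟨n, hn⟩ := hx
    induction hb using AddSubgroup.closure_induction with
    | mem y hy =>
      obtain ⟨m, hm⟩ := hy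
      exact AddSubgroup.subset_closure ⟨n + m, lcsGr_br H m n i k x hn y hm⟩
    | zero => rw [lie_zero]; exact zero_mem _
    | add y z _ _ h1 h2 => rw [lie_add]; exact add_mem h1 h2
    | neg y _ h => rw [lie_neg]; exact neg_mem h
  | zero => rw [zero_lie]; exact zero_mem _
  | add x z _ _ h1 h2 => rw [add_lie]; exact add_mem h1 h2
  | neg x _ h => rw [neg_lie]; exact neg_mem h

theorem subGr_le {H H' : ZMod p → AddSubgroup M} (h : H ≤ subGr H') : subGr H ≤ subGr H' := by
  have key : ∀ n, lcsGr H n ≤ subGr H' := by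
    intro n
    induction n with
    | zero => exact h
    | succ n ih =>
      refine br_le fun i k a ha b hb => ?_
      refine (AddSubgroup.closure_le _).mpr ?_ (br_subGr H' (i + k) (mem_br (ih i ha) (h k hb)))
      rintro z ⟨l, hl⟩
      exact AddSubgroup.subset_closure ⟨l + 1, hl⟩
  intro j
  exact (AddSubgroup.closure_le _).mpr fun m ⟨n, hm⟩ => key n j hm

/-- The part of degrees above `k`. -/
def gen (k : ℕ) (T : ZMod p → AddSubgroup M) (j : ZMod p) : AddSubgroup M :=
  if k < j.val then T j else ⊥

theorem gen_le (k : ℕ) (T : ZMod p → AddSubgroup M) : gen k T ≤ T := fun j => by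
  unfold gen
  split
  · exact le_rfl
  · exact bot_le

/-- Kreknin: the derived series falls into the subring of the higher degrees. -/
theorem derivedGr_le_subGr [Fact p.Prime] (k : ℕ) :
    ∀ T : ZMod p → AddSubgroup M, IsGr T → derivedGr T (2 ^ k - 1) ≤ subGr (gen k T) := by
  have hp : 0 < p := (Fact.out : p.Prime).pos
  induction k with
  | zero =>
    intro T hT j a ha
    by_cases hj : j = 0
    · subst hj
      rw [show derivedGr T (2 ^ 0 - 1) 0 = T 0 from rfl, hT.1, AddSubgroup.mem_bot] at ha
      rw [ha]; exact zero_mem _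
    · refine AddSubgroup.subset_closure ⟨0, ?_⟩
      show a ∈ gen 0 T j
      rw [gen, if_pos (Nat.pos_of_ne_zero fun h => hj ((ZMod.val_eq_zero j).mp h))]
      exact ha
  | succ k ih =>
    intro T hT
    set d := 2 ^ k - 1 with hd
    have e : 2 ^ (k + 1) - 1 = (d + 1) + d := by
      have := Nat.one_le_two_pow (n := k)
      rw [pow_succ]; omega
    rw [e, derivedGr_add]
    refine le_trans (ih _ (isGr_derivedGr hT (d + 1))) (subGr_le fun j => ?_)
    unfold gen
    split
    case isFalse => exact bot_le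
    case isTrue hkj =>
    rcases Nat.lt_or_ge (k + 1) j.val with hlt | hge
    · intro a ha
      refine AddSubgroup.subset_closure ⟨0, ?_⟩
      show a ∈ gen (k + 1) T j
      rw [gen, if_pos hlt]
      exact derivedGr_le hT (d + 1) j ha
    · have hj : j.val = k + 1 := by omega
      refine le_trans (le_trans (br_mono (ih T hT) (ih T hT) j) (br_subGr _ j))
        ((AddSubgroup.closure_le _).mpr ?_)
      rintro m ⟨n, hn⟩
      refine (AddSubgroup.closure_le _).mpr ?_ hn
      rintro _ ⟨i, u, hu, h, hh, rfl⟩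
      have huT : u ∈ T i := lcsGr_le hT (gen_le k T) n i hu
      by_cases hi : i = 0
      · subst hi
        rw [hT.1, AddSubgroup.mem_bot] at huT
        rw [huT, zero_lie]
        exact zero_mem _
      have hhv : k < (j - i).val ∨ h = 0 := by
        unfold gen at hh
        split at hh
        · exact Or.inl (by assumption)
        · exact Or.inr (AddSubgroup.mem_bot.mp hh)
      rcases hhv with hb | rfl
      swap
      · rw [lie_zero]; exact zero_mem _
      have : NeZero p := ⟨hp.ne'⟩
      have hbne : (j - i).val ≠ j.val := fun h => hi (by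
        have := ZMod.val_injective p h
        simpa using this)
      have hsum : i.val + (j - i).val = j.val + p := by
        have h1 := ZMod.val_add i (j - i)
        rw [add_sub_cancel] at h1
        have h2 := i.val_lt
        have h3 := (j - i).val_lt
        have h4 := Nat.mod_add_div (i.val + (j - i).val) p
        rcases Nat.lt_or_ge (i.val + (j - i).val) p with hlt | hge
        · rw [Nat.mod_eq_of_lt hlt] at h1
          have : i.val ≠ 0 := fun h => hi ((ZMod.val_eq_zero i).mp h)
          omega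
        · have : (i.val + (j - i).val) % p = i.val + (j - i).val - p := by
            rw [Nat.mod_eq_sub_mod hge, Nat.mod_eq_of_lt (by omega)]
          omega
      have hi2 : k + 1 < i.val := by
        have := (j - i).val_lt
        omega
      refine AddSubgroup.subset_closure ⟨1, ?_⟩
      have h5 := mem_br (A := gen (k + 1) T) (B := gen (k + 1) T) (i := i) (k := j - i)
        (a := u) (b := h) (by rw [gen, if_pos hi2]; exact huT)
        (by
          rw [gen, if_pos (by omega)]
          exact gen_le k T (j - i) hh)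
      rwa [add_sub_cancel] at h5

/-- Kreknin's theorem. -/
theorem derivedGr_eq_bot [Fact p.Prime] (T : ZMod p → AddSubgroup M) (hT : IsGr T) :
    derivedGr T (2 ^ (p - 1) - 1) = ⊥ := by
  have hp : 0 < p := (Fact.out : p.Prime).pos
  have : NeZero p := ⟨hp.ne'⟩
  refine le_bot_iff.mp ((derivedGr_le_subGr (p - 1) T hT).trans fun j => ?_)
  have hg : ∀ j, gen (p - 1) T j = ⊥ := fun j => by
    rw [gen, if_neg (by have := j.val_lt; omega)]
  refine (AddSubgroup.closure_le _).mpr ?_
  rintro m ⟨n, hn⟩
  cases n with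
  | zero =>
    change m ∈ gen (p - 1) T j at hn
    rw [hg] at hn
    exact hn
  | succ n =>
    refine (AddSubgroup.closure_le _).mpr ?_ hn
    rintro _ ⟨i, a, -, b, hb, rfl⟩
    rw [hg, AddSubgroup.mem_bot] at hb
    rw [hb, lie_zero]
    exact zero_mem _

/-- The degrees reached by taking some of the given steps. -/
def reach (j : ZMod p) : List (ZMod p) → Finset (ZMod p)
  | [] => {j}
  | i :: L => reach j L ∪ (reach j L).image (· + i)

theorem reach_shift (j i : ZMod p) :
    ∀ L, reach (j + i) L = (reach j L).image (· + i)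
  | [] => by simp [reach]
  | l :: L => by
    simp only [reach, reach_shift j i L, Finset.image_union, Finset.image_image]
    congr 1
    exact Finset.image_congr fun x _ => add_right_comm x i l

theorem zero_or_card_reach [Fact p.Prime] (j : ZMod p) :
    ∀ L : List (ZMod p), (∀ i ∈ L, i ≠ 0) → (0 : ZMod p) ∈ reach j L ∨ L.length < (reach j L).card
  | [], _ => Or.inr (by simp [reach])
  | i :: L, hL => by
    have hi : i ≠ 0 := hL i (List.mem_cons_self ..)
    rcases zero_or_card_reach j L fun x hx => hL x (List.mem_cons_of_mem _ hx) with h | h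
    · exact Or.inl (Finset.mem_union_left _ h)
    · by_cases hsub : (reach j L).image (· + i) ⊆ reach j L
      · left
        obtain ⟨a, ha⟩ : (reach j L).Nonempty := Finset.card_pos.mp (by omega)
        have hn : ∀ n : ℕ, a + (n : ZMod p) * i ∈ reach j L := by
          intro n
          induction n with
          | zero => simpa using ha
          | succ n ih =>
            have := hsub (Finset.mem_image_of_mem (· + i) ih)
            simpa [add_mul, add_assoc] using this
        have := hn (-a / i).val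
        rw [ZMod.natCast_zmod_val, div_mul_cancel₀ _ hi, add_neg_cancel] at this
        exact Finset.mem_union_left _ this
      · right
        obtain ⟨x, hx, hx'⟩ := Finset.not_subset.mp hsub
        have : (reach j L).card < (reach j (i :: L)).card := by
          refine Finset.card_lt_card ⟨Finset.subset_union_left, fun hh => hx' (hh ?_)⟩
          exact Finset.mem_union_right _ hx
        simp only [List.length_cons]
        omega

/-- Repeated bracketing. -/
def fold : M → List (ZMod p × M) → M
  | a, [] => a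
  | a, x :: L => fold ⁅a, x.2⁆ L

/-- The total degree. -/
def deg : List (ZMod p × M) → ZMod p
  | [] => 0
  | x :: L => x.1 + deg L

theorem fold_add : ∀ (L : List (ZMod p × M)) (a b : M), fold (a + b) L = fold a L + fold b L
  | [], _, _ => rfl
  | x :: L, a, b => by rw [fold, fold, fold, add_lie, fold_add L]

theorem fold_zero : ∀ L : List (ZMod p × M), fold (0 : M) L = 0
  | [] => rfl
  | x :: L => by rw [fold, zero_lie, fold_zero L]

theorem fold_neg (L : List (ZMod p × M)) (a : M) : fold (-a) L = -fold a L :=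
  eq_neg_of_add_eq_zero_left (by rw [← fold_add, neg_add_cancel, fold_zero])

section higman

variable {T : ZMod p → AddSubgroup M}

theorem stable (hT : IsGr T) :
    ∀ r i k, ∀ a ∈ lcsGr (br T T) r i, ∀ t ∈ T k, ⁅a, t⁆ ∈ lcsGr (br T T) r (i + k) := by
  intro r
  induction r with
  | zero => exact fun i k a ha t ht => mem_br ((br_le hT.2) i ha) ht
  | succ r ih =>
    intro i k a ha t ht
    induction ha using AddSubgroup.closure_induction with
    | mem z hz =>
      obtain ⟨l, u, hu, v, hv, rfl⟩ := hz
      rw [leibniz]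
      refine add_mem ?_ ?_
      · have h1 : ⁅v, t⁆ ∈ br T T (i - l + k) := mem_br (br_le hT.2 (i - l) hv) ht
        have := mem_br hu h1
        rwa [← add_assoc, add_sub_cancel] at this
      · have := mem_br (ih l k u hu t ht) hv
        rwa [add_right_comm, add_sub_cancel] at this
    | zero => rw [zero_lie]; exact zero_mem _
    | add z w _ _ hz hw => rw [add_lie]; exact add_mem hz hw
    | neg z _ hz => rw [neg_lie]; exact neg_mem hz

theorem fold_mem (hT : IsGr T) (r : ℕ) : ∀ (L : List (ZMod p × M)), (∀ x ∈ L, x.2 ∈ T x.1) →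
    ∀ j, ∀ a ∈ lcsGr (br T T) r j, fold a L ∈ lcsGr (br T T) r (j + deg L)
  | [], _, j, a, ha => by rw [deg, add_zero]; exact ha
  | x :: L, hL, j, a, ha => by
    rw [deg, ← add_assoc]
    exact fold_mem hT r L (fun y hy => hL y (List.mem_cons_of_mem _ hy)) _ _
      (stable hT r j x.1 a ha x.2 (hL x (List.mem_cons_self ..)))

theorem fold_comm (hT : IsGr T) (r : ℕ) : ∀ (L : List (ZMod p × M)), (∀ x ∈ L, x.2 ∈ T x.1) →
    ∀ j i, ∀ a ∈ lcsGr (br T T) r j, ∀ t ∈ T i,
      fold ⁅a, t⁆ L - ⁅fold a L, t⁆ ∈ lcsGr (br T T) (r + 1) (j + i + deg L)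
  | [], _, j, i, a, _, t, _ => by rw [fold, fold, sub_self]; exact zero_mem _
  | x :: L, hL, j, i, a, ha, t, ht => by
    have hx : x.2 ∈ T x.1 := hL x (List.mem_cons_self ..)
    have hL' : ∀ y ∈ L, y.2 ∈ T y.1 := fun y hy => hL y (List.mem_cons_of_mem _ hy)
    simp only [fold, deg]
    have h1 := fold_comm hT r L hL' (j + x.1) i ⁅a, x.2⁆ (stable hT r j x.1 a ha x.2 hx) t ht
    have h2 := fold_mem hT (r + 1) L hL' (j + (i + x.1)) ⁅a, ⁅t, x.2⁆⁆
      (mem_br ha (mem_br ht hx))
    have e : fold ⁅⁅a, t⁆, x.2⁆ L - ⁅fold ⁅a, x.2⁆ L, t⁆ =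
        fold ⁅a, ⁅t, x.2⁆⁆ L + (fold ⁅⁅a, x.2⁆, t⁆ L - ⁅fold ⁅a, x.2⁆ L, t⁆) := by
      rw [leibniz a t x.2, fold_add]
      abel
    rw [e]
    refine add_mem ?_ ?_
    · rwa [show j + i + (x.1 + deg L) = j + (i + x.1) + deg L by abel]
    · rwa [show j + i + (x.1 + deg L) = j + x.1 + i + deg L by abel]

theorem fold_of_zero_mem (hT : IsGr T) (r : ℕ) : ∀ (L : List (ZMod p × M)),
    (∀ x ∈ L, x.2 ∈ T x.1) → ∀ j, (0 : ZMod p) ∈ reach j (L.map Prod.fst) →
      ∀ a ∈ lcsGr (br T T) r j, fold a L ∈ lcsGr (br T T) (r + 1) (j + deg L)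
  | [], _, j, h, a, ha => by
    have hj : j = 0 := (Finset.mem_singleton.mp h).symm
    subst hj
    have h1 := lcsGr_le hT (br_le hT.2) r 0 ha
    rw [hT.1, AddSubgroup.mem_bot] at h1
    rw [h1, fold]
    exact zero_mem _
  | x :: L, hL, j, h, a, ha => by
    have hx : x.2 ∈ T x.1 := hL x (List.mem_cons_self ..)
    have hL' : ∀ y ∈ L, y.2 ∈ T y.1 := fun y hy => hL y (List.mem_cons_of_mem _ hy)
    simp only [fold, deg]
    rw [List.map_cons, reach, Finset.mem_union, ← reach_shift] at h
    rcases h with h | h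
    · have h1 := stable hT (r + 1) _ _ _ (fold_of_zero_mem hT r L hL' j h a ha) _ hx
      have h2 := fold_comm hT r L hL' j x.1 a ha x.2 hx
      rw [add_right_comm] at h1
      have := add_mem h2 h1
      rwa [sub_add_cancel, add_assoc] at this
    · rw [← add_assoc]
      exact fold_of_zero_mem hT r L hL' _ h _ (stable hT r j x.1 a ha x.2 hx)

theorem brackets_le [Fact p.Prime] (hT : IsGr T) (r m : ℕ) (h : lcsGr T m ≤ lcsGr (br T T) r) :
    lcsGr T (m + (p - 1)) ≤ lcsGr (br T T) (r + 1) := by
  suffices key : ∀ n, ∀ L : List (ZMod p × M), (∀ x ∈ L, x.2 ∈ T x.1) → L.length + n = p - 1 →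
      ∀ j, ∀ a ∈ lcsGr T (m + n) j, fold a L ∈ lcsGr (br T T) (r + 1) (j + deg L) by
    intro j a ha
    have := key (p - 1) [] (by simp) (by simp) j a ha
    rwa [fold, deg, add_zero] at this
  intro n
  induction n with
  | zero =>
    intro L hL hlen j a ha
    by_cases h0 : ∃ x ∈ L, x.1 = 0
    · have : ∀ (L : List (ZMod p × M)), (∀ x ∈ L, x.2 ∈ T x.1) → (∃ x ∈ L, x.1 = 0) →
          ∀ a, fold a L = 0 := by
        intro L
        induction L with
        | nil => intro _ ⟨x, hx, _⟩; simp at hx
        | cons y L ih =>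
          intro hL hex a
          rw [fold]
          by_cases hy : y.1 = 0
          · have := hL y (List.mem_cons_self ..)
            rw [hy, hT.1, AddSubgroup.mem_bot] at this
            rw [this, lie_zero, fold_zero]
          · obtain ⟨x, hx, hx0⟩ := hex
            rcases List.mem_cons.mp hx with rfl | hx
            · exact absurd hx0 hy
            · exact ih (fun z hz => hL z (List.mem_cons_of_mem _ hz)) ⟨x, hx, hx0⟩ _
      rw [this L hL h0]
      exact zero_mem _
    push Not at h0
    refine fold_of_zero_mem hT r L hL j ?_ a (h j ha)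
    have hne : ∀ i ∈ L.map Prod.fst, i ≠ 0 := fun i hi => by
      obtain ⟨x, hx, rfl⟩ := List.mem_map.mp hi
      exact h0 x hx
    rcases zero_or_card_reach j _ hne with h1 | h1
    · exact h1
    · rw [List.length_map] at h1
      have h2 : (reach j (L.map Prod.fst)) = Finset.univ := by
        refine Finset.eq_univ_of_card _ (le_antisymm (Finset.card_le_univ _) ?_)
        rw [ZMod.card]
        have := (Fact.out : p.Prime).pos
        omega
      rw [h2]
      exact Finset.mem_univ _
  | succ n ih =>
    intro L hL hlen j a ha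
    induction ha using AddSubgroup.closure_induction with
    | mem z hz =>
      obtain ⟨i, u, hu, v, hv, rfl⟩ := hz
      have := ih ((j - i, v) :: L) (fun x hx => by
        rcases List.mem_cons.mp hx with rfl | hx
        · exact hv
        · exact hL x hx) (by simp only [List.length_cons]; omega) i u hu
      rwa [fold, deg, ← add_assoc, add_sub_cancel] at this
    | zero => rw [fold_zero]; exact zero_mem _
    | add z w _ _ hz hw => rw [fold_add]; exact add_mem hz hw
    | neg z _ hz => rw [fold_neg]; exact neg_mem hz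

end higman

/-- The Higman bound. -/
def bound (p d : ℕ) : ℕ := ∑ i ∈ Finset.range d, (p - 1) ^ i

theorem bound_succ (p d : ℕ) : bound p (d + 1) = 1 + (p - 1) * bound p d := by
  rw [bound, bound, Finset.sum_range_succ', pow_zero, Finset.mul_sum, add_comm]
  congr 1
  exact Finset.sum_congr rfl fun i _ => pow_succ' _ _

/-- Higman's theorem for soluble graded Lie rings. -/
theorem lcsGr_eq_bot_of_derived [Fact p.Prime] : ∀ d : ℕ, ∀ T : ZMod p → AddSubgroup M, IsGr T →
    derivedGr T d = ⊥ → lcsGr T (bound p d) = ⊥ := by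
  intro d
  induction d with
  | zero => exact fun T _ h => h
  | succ d ih =>
    intro T hT h
    have h1 : derivedGr (br T T) d = ⊥ := by
      have e : derivedGr T (1 + d) = derivedGr (br T T) d := derivedGr_add T 1 d
      rw [← e, add_comm, h]
    have h2 := ih (br T T) (isGr_br_self hT) h1
    have key : ∀ r, lcsGr T (1 + (p - 1) * r) ≤ lcsGr (br T T) r := by
      intro r
      induction r with
      | zero => exact le_rfl
      | succ r ihr =>
        rw [Nat.mul_succ, ← add_assoc]
        exact brackets_le hT r _ ihr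
    rw [bound_succ, ← le_bot_iff, ← h2]
    exact key _

/-- The theorem of Higman, Kreknin and Kostrikin for graded Lie rings. -/
theorem lcsGr_eq_bot [Fact p.Prime] (T : ZMod p → AddSubgroup M) (hT : IsGr T) :
    lcsGr T (bound p (2 ^ (p - 1) - 1)) = ⊥ :=
  lcsGr_eq_bot_of_derived _ T hT (derivedGr_eq_bot T hT)

/-- Three colours give class two. -/
theorem lcsGr_two_eq_bot (T : ZMod 3 → AddSubgroup M) (hT : IsGr T) : lcsGr T 2 = ⊥ := by
  have h0 : ∀ i k, ∀ a ∈ T i, ∀ b ∈ T k, i + k = 0 → ⁅a, b⁆ = 0 := fun i k a ha b hb h => by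
    have := hT.2 i k a ha b hb
    rwa [h, hT.1, AddSubgroup.mem_bot] at this
  have hz : ∀ i, ∀ a ∈ T i, i = 0 → a = 0 := fun i a ha h => by
    rwa [h, hT.1, AddSubgroup.mem_bot] at ha
  refine le_bot_iff.mp (br_le fun i l a ha c hc => ?_)
  rw [Pi.bot_apply, AddSubgroup.mem_bot]
  induction ha using AddSubgroup.closure_induction with
  | mem z hz' =>
    obtain ⟨k, u, hu, v, hv, rfl⟩ := hz'
    by_cases h1 : k + (i - k) = 0
    · rw [h0 _ _ u hu v hv h1, zero_lie]
    by_cases h2 : i + l = 0
    · exact h0 i l _ (by simpa using hT.2 _ _ u hu v hv) c hc h2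
    by_cases h3 : k = 0
    · rw [hz k u hu h3, zero_lie, zero_lie]
    by_cases h4 : i - k = 0
    · rw [hz _ v hv h4, lie_zero, zero_lie]
    by_cases h5 : l = 0
    · rw [hz l c hc h5, lie_zero]
    have key : ∀ i k l : ZMod 3, k + (i - k) ≠ 0 → i + l ≠ 0 → k ≠ 0 → i - k ≠ 0 → l ≠ 0 →
        k + l = 0 ∧ (i - k) + l = 0 := by decide
    obtain ⟨e1, e2⟩ := key i k l h1 h2 h3 h4 h5
    rw [leibniz, h0 _ _ v hv c hc e2, h0 _ _ u hu c hc e1, lie_zero, zero_lie, add_zero]
  | zero => rw [zero_lie]
  | add z w _ _ hz hw => rw [add_lie, hz, hw, add_zero]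
  | neg z _ hz => rw [neg_lie, hz, neg_zero]

end Cfsg.Agent.Lib.Cores.Kreknin
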