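import Cfsg.Prelude
import Mathlib

/-!
Minimal normal subgroups of prime index: the order is `q ^ e`, `e` the order of `q` mod `p`.
-/

set_option autoImplicit false

namespace Cfsg.Agent.Lib.Cores

/-- An irreducible fixed-point-free automorphism of prime order `p` of an elementary `q`-group. -/
theorem card_eq_pow_orderOf {V : Type*} [AddCommGroup V] [Finite V] [Nontrivial V] {p q : ℕ}
    [Fact p.Prime] [Fact q.Prime] (hqp : q ≠ p) (hV : ∀ v : V, q • v = 0) (T : AddMonoid.End V)
    (hT : T ^ p = 1) (hfix : ∀ v, T v = v → v = 0)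
    (irr : ∀ W : AddSubgroup V, (∀ w ∈ W, T w ∈ W) → W = ⊥ ∨ W = ⊤) :
    Nat.card V = q ^ orderOf (q : ZMod p) := by
  classical
  have hp : p.Prime := Fact.out
  have hq : q.Prime := Fact.out
  have : Fintype V := Fintype.ofFinite V
  obtain ⟨d, hd⟩ : ∃ d, Nat.card V = q ^ d := by
    have h : IsPGroup q (Multiplicative V) := fun v => ⟨1, by
      rw [pow_one]; exact congrArg Multiplicative.ofAdd (hV v.toAdd)⟩
    obtain ⟨d, hd⟩ := IsPGroup.iff_card.mp h
    exact ⟨d, by rw [← hd]; exact Nat.card_congr Multiplicative.ofAdd⟩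
  have hmod : Nat.card V ≡ 1 [MOD p] := by
    let f : Function.End V := fun v => T v
    have hf : f ^ p ^ 1 = 1 := by
      rw [pow_one]
      funext v
      have : ∀ k : ℕ, (f ^ k) v = (T ^ k) v := by
        intro k
        induction k generalizing v with
        | zero => rfl
        | succ k ih => rw [pow_succ, pow_succ]; exact ih (T v)
      rw [this, hT]
      rfl
    have h := Equiv.Perm.card_fixedPoints_modEq hf
    have h1 : Fintype.card (Function.fixedPoints f) = 1 := by
      rw [Fintype.card_eq_one_iff]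
      exact ⟨⟨0, map_zero T⟩, fun v => Subtype.ext (hfix v.1 v.2)⟩
    rw [Nat.card_eq_fintype_card]
    rwa [h1] at h
  have hqd : (q : ZMod p) ^ d = 1 := by
    rw [← Nat.cast_pow, ← hd, ← Nat.cast_one, ZMod.natCast_eq_natCast_iff]
    exact hmod
  have hq0 : (q : ZMod p) ≠ 0 := by
    rw [Ne, ZMod.natCast_eq_zero_iff]
    exact fun h => hqp ((Nat.prime_dvd_prime_iff_eq hp hq).mp h).symm
  have he : 0 < orderOf (q : ZMod p) := Nat.pos_of_dvd_of_pos
    (ZMod.orderOf_dvd_card_sub_one hq0) (by have := hp.two_le; omega)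
  refine le_antisymm ?_ ?_
  swap
  · have hdpos : 0 < d := Nat.pos_of_ne_zero fun h0 => by
      rw [h0, pow_zero] at hd
      exact absurd hd (Finite.one_lt_card (α := V)).ne'
    rw [hd]
    exact Nat.pow_le_pow_right hq.pos (Nat.le_of_dvd hdpos (orderOf_dvd_of_pow_eq_one hqd))
  let R : Subring (AddMonoid.End V) := Subring.closure {T}
  have hc1 : R ≤ Subring.centralizer {T} := Subring.closure_le.mpr (by
    rintro _ rfl
    exact Subring.mem_centralizer_iff.mpr fun g hg => by rw [Set.mem_singleton_iff.mp hg])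
  have hc2 : R ≤ Subring.centralizer (R : Set (AddMonoid.End V)) := Subring.closure_le.mpr (by
    rintro _ rfl
    exact Subring.mem_centralizer_iff.mpr fun g hg =>
      (Subring.mem_centralizer_iff.mp (hc1 hg) _ rfl).symm)
  let _ : CommRing R :=
    { (inferInstance : Ring R) with
      mul_comm := fun a b => Subtype.ext (Subring.mem_centralizer_iff.mp (hc2 b.2) a a.2) }
  have : Finite (AddMonoid.End V) :=
    Finite.of_injective (fun f : AddMonoid.End V => (f : V → V)) DFunLike.coe_injective
  have : Fintype R := Fintype.ofFinite R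
  obtain ⟨v₀, hv₀⟩ := exists_ne (0 : V)
  have : Nontrivial R := ⟨⟨1, 0, fun h => hv₀ (by
    have h1 := congrArg (fun r : R => (r : AddMonoid.End V) v₀) h
    exact h1)⟩⟩
  have hcast : ((q : ℕ) : R) = 0 := Subtype.ext (DFunLike.ext _ _ fun v => by
    show (((q : R) : AddMonoid.End V)) v = 0
    rw [show (((q : R) : AddMonoid.End V)) = (q : AddMonoid.End V) from map_natCast R.subtype q]
    rw [← nsmul_one]
    exact hV v)
  have : CharP R q := (CharP.charP_iff_prime_eq_zero hq).mpr hcast
  have : NoZeroDivisors R := ⟨fun {a b} hab => by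
    refine or_iff_not_imp_left.mpr fun ha => ?_
    have hinv : ∀ w ∈ (a : AddMonoid.End V).ker, T w ∈ (a : AddMonoid.End V).ker := fun w hw => by
      have h1 : (a : AddMonoid.End V) * T = T * a :=
        (Subring.mem_centralizer_iff.mp (hc1 a.2) T rfl).symm
      show (a : AddMonoid.End V) (T w) = 0
      refine (DFunLike.congr_fun h1 w).trans ?_
      show T ((a : AddMonoid.End V) w) = 0
      rw [show (a : AddMonoid.End V) w = 0 from hw, map_zero]
    rcases irr _ hinv with h | h
    · refine Subtype.ext (DFunLike.ext _ _ fun v => ?_)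
      have h2 : (a : AddMonoid.End V) ((b : AddMonoid.End V) v) = 0 :=
        congrArg (fun r : R => (r : AddMonoid.End V) v) hab
      have h3 : (b : AddMonoid.End V) v ∈ (a : AddMonoid.End V).ker := h2
      rw [h] at h3
      exact h3
    · refine absurd (Subtype.ext (DFunLike.ext _ _ fun v => ?_)) ha
      have h3 : v ∈ (a : AddMonoid.End V).ker := h ▸ AddSubgroup.mem_top v
      exact h3⟩
  have : IsDomain R := NoZeroDivisors.to_isDomain R
  set e := orderOf (q : ZMod p) with he'
  have hqe : (q : ℕ) ^ e ≡ 1 [MOD p] := by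
    rw [← ZMod.natCast_eq_natCast_iff, Nat.cast_pow, Nat.cast_one]
    exact pow_orderOf_eq_one _
  have hTe : T ^ q ^ e = T := by
    rw [← Nat.div_add_mod (q ^ e) p, hqe, Nat.mod_eq_of_lt hp.one_lt, pow_succ, pow_mul, hT,
      one_pow, one_mul]
  have hfr : ∀ r : R, r ^ q ^ e = r := by
    rintro ⟨r, hr⟩
    induction hr using Subring.closure_induction with
    | mem x hx => exact Subtype.ext (by
        rw [SubmonoidClass.coe_pow]
        show x ^ q ^ e = x
        rw [Set.mem_singleton_iff.mp hx, hTe])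
    | zero => exact zero_pow (pow_ne_zero _ hq.ne_zero)
    | one => exact one_pow _
    | add x y hx hy ihx ihy =>
      show ((⟨x, hx⟩ : R) + ⟨y, hy⟩) ^ q ^ e = ⟨x, hx⟩ + ⟨y, hy⟩
      rw [add_pow_char_pow, ihx, ihy]
    | neg x hx ih =>
      show (-(⟨x, hx⟩ : R)) ^ q ^ e = -⟨x, hx⟩
      have h0 : ((-(⟨x, hx⟩ : R)) + ⟨x, hx⟩) ^ q ^ e = 0 := by
        rw [neg_add_cancel, zero_pow (pow_ne_zero _ hq.ne_zero)]
      rw [add_pow_char_pow, ih] at h0
      exact eq_neg_of_add_eq_zero_left h0
    | mul x y hx hy ihx ihy =>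
      show ((⟨x, hx⟩ : R) * ⟨y, hy⟩) ^ q ^ e = ⟨x, hx⟩ * ⟨y, hy⟩
      rw [mul_pow, ihx, ihy]
  have hR : Fintype.card R ≤ q ^ e := by
    have hdeg : (Polynomial.X ^ q ^ e - Polynomial.X : Polynomial R).natDegree = q ^ e := by
      rw [Polynomial.natDegree_sub_eq_left_of_natDegree_lt, Polynomial.natDegree_X_pow]
      rw [Polynomial.natDegree_X_pow, Polynomial.natDegree_X]
      exact Nat.one_lt_pow he.ne' hq.one_lt
    have hne : (Polynomial.X ^ q ^ e - Polynomial.X : Polynomial R) ≠ 0 := fun h => by
      rw [h, Polynomial.natDegree_zero] at hdeg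
      exact absurd hdeg.symm (pow_ne_zero _ hq.ne_zero)
    refine le_trans (Polynomial.card_le_degree_of_subset_roots (Z := Finset.univ) fun r _ => ?_)
      hdeg.le
    rw [Polynomial.mem_roots hne]
    simp [hfr r]
  let W : AddSubgroup V :=
    { carrier := Set.range fun r : R => (r : AddMonoid.End V) v₀
      zero_mem' := ⟨0, rfl⟩
      add_mem' := by
        rintro _ _ ⟨r, rfl⟩ ⟨s, rfl⟩
        exact ⟨r + s, rfl⟩
      neg_mem' := by
        rintro _ ⟨r, rfl⟩
        exact ⟨-r, rfl⟩ }
  have hW : W = ⊤ := by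
    rcases irr W (by
      rintro _ ⟨r, rfl⟩
      exact ⟨⟨T, Subring.subset_closure rfl⟩ * r, rfl⟩) with h | h
    · have h1 : v₀ ∈ W := ⟨1, rfl⟩
      rw [h] at h1
      exact absurd h1 hv₀
    · exact h
  have hsurj : Function.Surjective fun r : R => (r : AddMonoid.End V) v₀ := fun v =>
    (hW ▸ AddSubgroup.mem_top v : v ∈ W)
  calc Nat.card V ≤ Nat.card R := Nat.card_le_card_of_surjective _ hsurj
    _ ≤ q ^ e := by rwa [Nat.card_eq_fintype_card]

open scoped Pointwise

/-- An abelian normal subgroup of prime index in a non-abelian group. -/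
theorem exists_sup_zpowers {G : Type*} [Group G] [Finite G] {p : ℕ} [Fact p.Prime]
    (A : Subgroup G) [A.Normal] (hidx : A.index = p) {t : G} (ht : t ∉ A) :
    A ⊔ Subgroup.zpowers t = ⊤ := by
  have hp : p.Prime := Fact.out
  have h1 := Subgroup.relIndex_mul_index (le_sup_left : A ≤ A ⊔ Subgroup.zpowers t)
  rw [hidx] at h1
  rcases hp.eq_one_or_self_of_dvd _ (Dvd.intro_left _ h1) with h | h
  · exact Subgroup.index_eq_one.mp h
  · rw [h] at h1
    have h2 : A.relIndex (A ⊔ Subgroup.zpowers t) = 1 := by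
      have := hp.pos
      nlinarith
    exact absurd (Subgroup.relIndex_eq_one.mp h2
      (Subgroup.mem_sup_right (Subgroup.mem_zpowers t))) ht

/-- The order of an elementary abelian minimal normal subgroup of index `p`. -/
theorem card_eq_of_minimal_normal {G : Type*} [Group G] [Finite G] {p q : ℕ} [Fact p.Prime]
    (hq : q.Prime) (hpq : q ≠ p) (hna : ¬ IsMulCommutative G) (A : Subgroup G) [A.Normal]
    (hA : Cfsg.IsElementaryAbelian q A) (hidx : A.index = p)
    (hmin : ∀ B : Subgroup G, B.Normal → B ≤ A → B = ⊥ ∨ B = A) :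
    Nat.card A = q ^ orderOf (q : ZMod p) := by
  have hp : p.Prime := Fact.out
  have := Fact.mk hq
  obtain ⟨t, ht⟩ := exists_prime_orderOf_dvd_card' (G := G) p (hidx ▸ A.index_dvd_card)
  have htA : t ∉ A := fun h => by
    have h1 : orderOf (⟨t, h⟩ : A) ∣ q := orderOf_dvd_of_pow_eq_one (Subtype.ext (hA.2 t h))
    rw [← Subgroup.orderOf_coe, ht] at h1
    exact hpq ((Nat.prime_dvd_prime_iff_eq hp hq).mp h1).symm
  have hsup := exists_sup_zpowers A hidx htA
  have hfac : ∀ g : G, ∃ a ∈ A, ∃ n : ℕ, g = a * t ^ n := fun g => by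
    obtain ⟨a, ha, s, hs, rfl⟩ := Subgroup.mem_sup_of_normal_left.mp
      (hsup ▸ Subgroup.mem_top g : g ∈ A ⊔ Subgroup.zpowers t)
    obtain ⟨n, rfl⟩ := mem_powers_iff_mem_zpowers.mpr hs
    exact ⟨a, ha, n, rfl⟩
  have hcomm : ∀ a ∈ A, ∀ b ∈ A, a * b = b * a := fun a ha b hb =>
    congrArg Subtype.val (hA.1.1.comm (⟨a, ha⟩ : A) ⟨b, hb⟩)
  have hconj : ∀ B : Subgroup G, B ≤ A → (∀ b ∈ B, t * b * t⁻¹ ∈ B) → B.Normal := by
    refine fun B hB hinv => ⟨fun b hb g => ?_⟩
    obtain ⟨a, ha, n, rfl⟩ := hfac g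
    have h1 : t ^ n * b * (t ^ n)⁻¹ ∈ B := by
      induction n with
      | zero => simpa using hb
      | succ n ih =>
        have h2 := hinv _ ih
        rwa [pow_succ', mul_inv_rev, show t * t ^ n * b * ((t ^ n)⁻¹ * t⁻¹) =
          t * (t ^ n * b * (t ^ n)⁻¹) * t⁻¹ by group]
    rw [mul_inv_rev, show a * t ^ n * b * ((t ^ n)⁻¹ * a⁻¹) =
      a * (t ^ n * b * (t ^ n)⁻¹) * a⁻¹ by group, hcomm a ha _ (hB h1), mul_inv_cancel_right]
    exact h1
  have hA0 : A ≠ ⊥ := fun h => hna ⟨⟨fun x y => by
    obtain ⟨a, ha, n, rfl⟩ := hfac x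
    obtain ⟨b, hb, m, rfl⟩ := hfac y
    rw [h, Subgroup.mem_bot] at ha hb
    rw [ha, hb, one_mul, one_mul, pow_mul_comm]⟩⟩
  have hfix : ∀ a ∈ A, t * a * t⁻¹ = a → a = 1 := by
    let C : Subgroup G := A ⊓ Subgroup.centralizer {t}
    have hmem : ∀ a, a ∈ C ↔ a ∈ A ∧ t * a = a * t := fun a => by
      rw [Subgroup.mem_inf, Subgroup.mem_centralizer_singleton_iff, eq_comm]
    have hC : C.Normal := hconj C inf_le_left fun b hb => by
      rw [(hmem b).mp hb |>.2, mul_inv_cancel_right]
      exact hb
    rcases hmin C hC inf_le_left with h | h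
    · intro a ha hta
      have h1 : a ∈ C := (hmem a).mpr ⟨ha, mul_inv_eq_iff_eq_mul.mp hta⟩
      rwa [h, Subgroup.mem_bot] at h1
    · refine absurd ⟨⟨fun x y => ?_⟩⟩ hna
      obtain ⟨a, ha, n, rfl⟩ := hfac x
      obtain ⟨b, hb, m, rfl⟩ := hfac y
      have ca : Commute t a := ((hmem a).mp (h ▸ ha)).2
      have cb : Commute t b := ((hmem b).mp (h ▸ hb)).2
      exact ((Commute.mul_right (hcomm a ha b hb) (ca.symm.pow_right m)).mul_left
        ((cb.pow_left n).mul_right (Commute.pow_pow_self t n m))).eq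
  let _ : CommGroup A :=
    { (inferInstance : Group A) with mul_comm := hA.1.1.comm }
  let T : AddMonoid.End (Additive A) :=
    (MulAut.conjNormal t : A ≃* A).toMonoidHom.toAdditive
  have : Nontrivial (Additive A) := (Subgroup.nontrivial_iff_ne_bot A).mpr hA0
  have hTapply : ∀ v : Additive A, ((Additive.toMul (T v) : A) : G) =
      t * ((Additive.toMul v : A) : G) * t⁻¹ := fun v => MulAut.conjNormal_apply t _
  have hTp : T ^ p = 1 := by
    have hk : ∀ (k : ℕ) (v : Additive A), ((Additive.toMul ((T ^ k) v) : A) : G) =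
        t ^ k * ((Additive.toMul v : A) : G) * (t ^ k)⁻¹ := by
      intro k
      induction k with
      | zero => intro v; simp
      | succ k ih =>
        intro v
        rw [pow_succ]
        show ((Additive.toMul ((T ^ k) (T v)) : A) : G) = _
        rw [ih, hTapply, pow_succ]
        group
    refine DFunLike.ext _ _ fun v => Additive.toMul.injective (Subtype.ext ?_)
    rw [hk, ← ht, pow_orderOf_eq_one, one_mul, inv_one, mul_one]
    rfl
  refine (Nat.card_congr Additive.ofMul).trans (card_eq_pow_orderOf (V := Additive A) hpq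
    (fun v => ?_) T hTp (fun v hv => ?_) fun W hW => ?_)
  · exact congrArg Additive.ofMul (Subtype.ext (hA.2 _ (Additive.toMul v).2) :
      (Additive.toMul v) ^ q = 1)
  · have h1 := hTapply v
    rw [hv] at h1
    exact congrArg Additive.ofMul (Subtype.ext (hfix _ (Additive.toMul v).2 h1.symm) :
      Additive.toMul v = 1)
  · let B : Subgroup G := (AddSubgroup.toSubgroup' W).map A.subtype
    have hB : B.Normal := hconj B (Subgroup.map_subtype_le _) (by
      rintro _ ⟨b, hb, rfl⟩
      exact ⟨Additive.toMul (T (Additive.ofMul b)), hW _ hb, hTapply _⟩)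
    rcases hmin B hB (Subgroup.map_subtype_le _) with h | h
    · refine Or.inl (AddSubgroup.eq_bot_iff_forall _ |>.mpr fun v hv => ?_)
      have h1 : ((Additive.toMul v : A) : G) ∈ B := ⟨Additive.toMul v, hv, rfl⟩
      rw [h, Subgroup.mem_bot] at h1
      exact congrArg Additive.ofMul (Subtype.ext h1 : Additive.toMul v = 1)
    · refine Or.inr (eq_top_iff.mpr fun v _ => ?_)
      obtain ⟨b, hb, hbe⟩ : ((Additive.toMul v : A) : G) ∈ B :=
        (SetLike.ext_iff.mp h _).mpr (Additive.toMul v).2
      rw [show b = Additive.toMul v from Subtype.ext hbe] at hb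
      exact hb

/-- Subgroups of coprime orders meet trivially. -/
theorem inf_eq_bot_of_card_coprime {G : Type*} [Group G] {H K : Subgroup G}
    (h : (Nat.card H).Coprime (Nat.card K)) : H ⊓ K = ⊥ :=
  (Subgroup.disjoint_of_coprime_natCard h).eq_bot

/-- One normal Sylow subgroup makes the group closed. -/
theorem isPClosed_of_normal {G : Type*} [Group G] [Finite G] {p : ℕ} [Fact p.Prime] (P : Sylow p G)
    (h : (P : Subgroup G).Normal) : Cfsg.IsPClosed p G := fun Q => by
  obtain ⟨g, rfl⟩ := MulAction.exists_smul_eq G P Q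
  rw [Sylow.smul_eq_of_normal (h := h)]
  exact h

/-- The structure of a group with a minimal normal complement to a non-normal Sylow subgroup of
order `p` which is normal in every proper subgroup containing it. -/
theorem minimal_non_closed_structure {G : Type*} [Group G] [Finite G] {p : ℕ} [Fact p.Prime]
    (N : Subgroup G) [N.Normal] (hidx : N.index = p) (hpN : ¬ p ∣ Nat.card N)
    (hmin : ∀ B : Subgroup G, B.Normal → B ≤ N → B = ⊥ ∨ B = N)
    (hnc : ¬ Cfsg.IsPClosed p G)
    (hsub : ∀ (P : Sylow p G) (H : Subgroup G), H ≠ ⊤ → (P : Subgroup G) ≤ H →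
      H ≤ Subgroup.normalizer ((P : Subgroup G) : Set G)) :
    ∃ q : ℕ, q.Prime ∧ q ≠ p ∧ Nat.card G = p * q ^ orderOf (q : ZMod p) ∧
      ∃ A : Subgroup G, A.Normal ∧ Nat.card A = q ^ orderOf (q : ZMod p) ∧
        Cfsg.IsElementaryAbelian q A ∧ ∀ B : Subgroup G, B.Normal → B ≤ A → B = ⊥ ∨ B = A := by
  have hp : p.Prime := Fact.out
  have hG : Nat.card G = p * Nat.card N := by rw [← hidx, N.index_mul_card]
  have hP : ∀ P : Sylow p G, Nat.card P = p := fun P => by
    rw [Sylow.card_eq_multiplicity, hG, Nat.factorization_mul hp.ne_zero Nat.card_pos.ne',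
      Finsupp.add_apply, Nat.factorization_eq_zero_of_not_dvd hpN, add_zero,
      hp.factorization_self, pow_one]
  -- for each prime, a Sylow subgroup of `N` is everything or centralized by a Sylow `p`
  by_cases hq : ∃ (q : ℕ) (_ : q.Prime), IsPGroup q N
  · obtain ⟨q, hq, hqN⟩ := hq
    have := Fact.mk hq
    have hN0 : N ≠ ⊥ := fun h => by
      refine hnc fun P => ?_
      have h1 : (P : Subgroup G) = ⊤ := Subgroup.eq_top_of_card_eq _ (by
        rw [hP P, hG, h, Subgroup.card_bot, mul_one])
      rw [h1]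
      infer_instance
    have hqp : q ≠ p := fun h => hpN (by
      obtain ⟨n, hn⟩ := IsPGroup.iff_card.mp hqN
      have : Nontrivial N := (Subgroup.nontrivial_iff_ne_bot N).mpr hN0
      have h1 : n ≠ 0 := fun h0 => by
        rw [h0, pow_zero] at hn
        exact absurd hn (Finite.one_lt_card (α := N)).ne'
      rw [hn, h]
      exact dvd_pow_self p h1)
    have hab : IsMulCommutative N := by
      have hc : ((Subgroup.center N).map N.subtype).Normal := inferInstance
      rcases hmin _ hc (Subgroup.map_subtype_le _) with h | h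
      · rw [Subgroup.map_eq_bot_iff_of_injective _ N.subtype_injective] at h
        have : Nontrivial N := (Subgroup.nontrivial_iff_ne_bot N).mpr hN0
        have h1 := hqN.center_nontrivial
        rw [h] at h1
        exact absurd h1 (not_nontrivial _)
      · refine ⟨⟨fun a b => ?_⟩⟩
        obtain ⟨c, hc', hce⟩ : (b : G) ∈ (Subgroup.center N).map N.subtype := by
          rw [h]; exact b.2
        rw [← show c = b from Subtype.ext hce]
        exact Subgroup.mem_center_iff.mp hc' a
    let Ω : Subgroup G :=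
      { carrier := {x | x ∈ N ∧ x ^ q = 1}
        one_mem' := ⟨one_mem N, one_pow q⟩
        mul_mem' := fun {a b} ha hb => ⟨mul_mem ha.1 hb.1, by
          have h : Commute a b := congrArg Subtype.val (hab.1.comm (⟨a, ha.1⟩ : N) ⟨b, hb.1⟩)
          rw [h.mul_pow, ha.2, hb.2, one_mul]⟩
        inv_mem' := fun {a} ha => ⟨inv_mem ha.1, by rw [inv_pow, ha.2, inv_one]⟩ }
    have hΩ : Ω.Normal := ⟨fun x hx g => ⟨Subgroup.Normal.conj_mem inferInstance x hx.1 g, by
      rw [conj_pow, hx.2]; group⟩⟩
    have hel : Cfsg.IsElementaryAbelian q N := by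
      refine ⟨hab, fun a ha => ?_⟩
      rcases hmin Ω hΩ (fun x hx => hx.1) with h | h
      · have : Nontrivial N := (Subgroup.nontrivial_iff_ne_bot N).mpr hN0
        obtain ⟨n, hn⟩ := IsPGroup.iff_card.mp hqN
        obtain ⟨x, hx⟩ := exists_prime_orderOf_dvd_card' (G := N) q (by
          refine hn ▸ dvd_pow_self q fun h0 => ?_
          rw [h0, pow_zero] at hn
          exact absurd hn (Finite.one_lt_card (α := N)).ne')
        have h1 : (x : G) ∈ Ω := ⟨x.2, by
          rw [← hx, ← Subgroup.orderOf_coe, pow_orderOf_eq_one]⟩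
        rw [h, Subgroup.mem_bot] at h1
        rw [← Subgroup.orderOf_coe, h1, orderOf_one] at hx
        exact absurd hx hq.one_lt.ne
      · exact ((SetLike.ext_iff.mp h a).mpr ha).2
    have hna : ¬ IsMulCommutative G := fun h => hnc fun P =>
      ⟨fun x hx g => by rwa [h.1.comm g x, mul_inv_cancel_right]⟩
    have hcard := card_eq_of_minimal_normal hq hqp hna N hel hidx hmin
    exact ⟨q, hq, hqp, by rw [hG, hcard], N, inferInstance, hcard, hel, hmin⟩
  · exfalso
    refine hnc ?_
    let P : Sylow p G := default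
    refine isPClosed_of_normal P ?_
    -- all Sylow subgroups of `N` meet the centralizer of `P` fully
    have hall : ∀ q : ℕ, q.Prime → q ^ (Nat.card N).factorization q ∣
        Nat.card (N ⊓ Subgroup.centralizer ((P : Subgroup G) : Set G) : Subgroup G) := by
      intro q hq'
      have := Fact.mk hq'
      let Q : Sylow q N := default
      let Qm : Subgroup G := (Q : Subgroup N).map N.subtype
      have hQm : Qm ≤ N := Subgroup.map_subtype_le _
      have hcQ : Nat.card Qm = q ^ (Nat.card N).factorization q := by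
        rw [← Q.card_eq_multiplicity]
        exact (Nat.card_congr ((Q : Subgroup N).equivMapOfInjective _
          N.subtype_injective).toEquiv).symm
      obtain ⟨x, hxK, hxN⟩ : ∃ x ∈ Subgroup.normalizer (Qm : Set G), x ∉ N := by
        by_contra h
        push Not at h
        have h1 : Subgroup.normalizer (Qm : Set G) ⊔ N = ⊤ := Sylow.normalizer_sup_eq_top Q
        rw [sup_eq_right.mpr h] at h1
        rw [h1, Subgroup.index_top] at hidx
        exact hp.ne_one hidx.symm
      obtain ⟨y, hyK, hy⟩ : ∃ y ∈ Subgroup.normalizer (Qm : Set G), orderOf y = p := by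
        have h1 : orderOf (QuotientGroup.mk' N x) = p := by
          have h2 : orderOf (QuotientGroup.mk' N x) ∣ p := by
            rw [← hidx, Subgroup.index_eq_card]
            exact orderOf_dvd_natCard _
          exact (hp.eq_one_or_self_of_dvd _ h2).resolve_left fun h3 =>
            hxN ((QuotientGroup.eq_one_iff x).mp (orderOf_eq_one_iff.mp h3))
        have h4 : p ∣ Nat.card (Subgroup.normalizer (Qm : Set G)) := by
          refine h1 ▸ (orderOf_map_dvd (QuotientGroup.mk' N) x).trans ?_
          exact (Subgroup.orderOf_coe (⟨x, hxK⟩ : Subgroup.normalizer (Qm : Set G))).symm ▸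
            orderOf_dvd_natCard _
        obtain ⟨y, hy⟩ := exists_prime_orderOf_dvd_card' p h4
        exact ⟨y, y.2, by rw [Subgroup.orderOf_coe, hy]⟩
      let P' : Sylow p G := Sylow.ofCard (Subgroup.zpowers y) (by
        rw [Nat.card_zpowers, hy, ← Sylow.card_eq_multiplicity P, hP P])
      have hP'c : ((P' : Subgroup G)) = Subgroup.zpowers y := rfl
      have hnorm : (P' : Subgroup G) ≤ Subgroup.normalizer (Qm : Set G) := by
        rw [hP'c, Subgroup.zpowers_le]; exact hyK
      have hdisj : (P' : Subgroup G) ⊓ Qm = ⊥ := by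
        refine inf_eq_bot_of_card_coprime ?_
        rw [hP P']
        exact hp.coprime_iff_not_dvd.mpr fun h => hpN (h.trans (Subgroup.card_dvd_of_le hQm))
      have hne : (P' : Subgroup G) ⊔ Qm ≠ ⊤ := fun h => by
        refine hq ⟨q, hq', ?_⟩
        have hNle : N ≤ Qm := fun n hn => by
          have hmem : n ∈ (((P' : Subgroup G) ⊔ Qm : Subgroup G) : Set G) := by
            rw [h]; exact Set.mem_univ n
          rw [Subgroup.coe_mul_of_left_le_normalizer_right _ _ hnorm] at hmem
          obtain ⟨b, hb, c, hc, rfl⟩ := hmem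
          have h1 : b ∈ N := by
            have h2 : b * c * c⁻¹ ∈ N := mul_mem hn (inv_mem (hQm hc))
            rwa [mul_inv_cancel_right] at h2
          have h3 : b ∈ (P' : Subgroup G) ⊓ N := Subgroup.mem_inf.mpr ⟨hb, h1⟩
          rw [inf_eq_bot_of_card_coprime (by
            rw [hP P']; exact hp.coprime_iff_not_dvd.mpr hpN), Subgroup.mem_bot] at h3
          simp only [h3, one_mul]
          exact hc
        refine IsPGroup.of_card (n := (Nat.card N).factorization q) ?_
        rw [← hcQ, le_antisymm hQm hNle]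
      have hH := hsub P' _ hne le_sup_left
      have hcomm : ∀ a ∈ (P' : Subgroup G), ∀ b ∈ Qm, a * b = b * a := fun a ha b hb => by
        have h1 : a * b * a⁻¹ * b⁻¹ ∈ (P' : Subgroup G) ⊓ Qm := Subgroup.mem_inf.mpr
          ⟨by
            have h2 : b * a⁻¹ * b⁻¹ ∈ (P' : Subgroup G) :=
              (Subgroup.mem_normalizer_iff.mp (hH (Subgroup.mem_sup_right hb)) _).mp (inv_mem ha)
            simpa [mul_assoc] using mul_mem ha h2,
          mul_mem ((Subgroup.mem_normalizer_iff.mp (hnorm ha) b).mp hb) (inv_mem hb)⟩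
        rw [hdisj, Subgroup.mem_bot, mul_inv_eq_one, mul_inv_eq_iff_eq_mul] at h1
        exact h1
      obtain ⟨g, hg⟩ := MulAction.exists_smul_eq G P' P
      have hgc : ((P : Subgroup G)) = (P' : Subgroup G).map (MulAut.conj g).toMonoidHom := by
        rw [← hg]; rfl
      have hle : Qm.map (MulAut.conj g).toMonoidHom ≤
          N ⊓ Subgroup.centralizer ((P : Subgroup G) : Set G) := by
        rintro _ ⟨b, hb, rfl⟩
        refine Subgroup.mem_inf.mpr
          ⟨Subgroup.Normal.conj_mem inferInstance b (hQm hb) g, Subgroup.mem_centralizer_iff.mpr ?_⟩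
        intro a ha
        rw [hgc] at ha
        obtain ⟨a, ha', rfl⟩ := ha
        rw [← map_mul, ← map_mul, hcomm a ha' b hb]
      rw [← hcQ, Nat.card_congr (Qm.equivMapOfInjective (MulAut.conj g).toMonoidHom
        (MulAut.conj g).injective).toEquiv]
      exact Subgroup.card_dvd_of_le hle
    have hNC : N ≤ Subgroup.centralizer ((P : Subgroup G) : Set G) := by
      have h1 : Nat.card N ∣
          Nat.card (N ⊓ Subgroup.centralizer ((P : Subgroup G) : Set G) : Subgroup G) := by
        refine (Nat.factorization_prime_le_iff_dvd Nat.card_pos.ne' Nat.card_pos.ne').mp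
          fun q hq' => ?_
        exact (hq'.pow_dvd_iff_le_factorization Nat.card_pos.ne').mp (hall q hq')
      exact inf_eq_left.mp (Subgroup.eq_of_le_of_card_ge inf_le_left (Nat.le_of_dvd Nat.card_pos h1))
    have htop : N ⊔ (P : Subgroup G) = ⊤ := by
      refine Subgroup.eq_top_of_card_eq _ (Nat.dvd_antisymm (Subgroup.card_subgroup_dvd_card _) ?_)
      rw [hG]
      nth_rw 1 [← hP P]
      exact Nat.Coprime.mul_dvd_of_dvd_of_dvd (by rw [hP P]; exact hp.coprime_iff_not_dvd.mpr hpN)
        (Subgroup.card_dvd_of_le le_sup_right) (Subgroup.card_dvd_of_le le_sup_left)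
    rw [← Subgroup.normalizer_eq_top_iff, eq_top_iff, ← htop]
    exact sup_le (hNC.trans (Subgroup.centralizer_le_normalizer _)) Subgroup.le_normalizer

end Cfsg.Agent.Lib.Cores
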